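import Cfsg.Agent.S1545
import Cfsg.Agent.OddOrderLocal.IdealPrime

/-!
Pairwise non-adjacent primes in the prime graph (Gruenberg-Kegel graph) of a finite group and normal series.
-/

set_option autoImplicit false

namespace Cfsg.Agent.H395.Coclique

open Subgroup

variable {G : Type*} [Group G]

/-- Two commuting elements of prime orders `p ≠ q` give an element of order `p * q`. -/
theorem exists_mul_of_commute {p q : ℕ} (hp : p.Prime) (hq : q.Prime) (hpq : p ≠ q) {u v : G}
    (hu : orderOf u = p) (hv : orderOf v = q) (h : u * v = v * u) : ∃ x : G, orderOf x = p * q := by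
  refine ⟨u * v, ?_⟩
  have hc : Commute u v := h
  rw [hc.orderOf_mul_eq_mul_orderOf_of_coprime, hu, hv]
  rw [hu, hv]
  exact (Nat.coprime_primes hp hq).mpr hpq

variable [Finite G]

/-- An element of prime order in a nontrivial `p`-subgroup. -/
theorem exists_orderOf_eq {p : ℕ} (hp : p.Prime) {P : Subgroup G} (hP : IsPGroup p P) {u : G}
    (hu : u ∈ P) (hu1 : u ≠ 1) : ∃ k : ℕ, orderOf (u ^ k) = p := by
  obtain ⟨n, hn⟩ := hP ⟨u, hu⟩
  have hn' : u ^ p ^ n = 1 := by
    have := congrArg Subtype.val hn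
    simpa using this
  have hd : orderOf u ∣ p ^ n := orderOf_dvd_of_pow_eq_one hn'
  obtain ⟨m, -, hm⟩ := (Nat.dvd_prime_pow hp).mp hd
  have hm0 : m ≠ 0 := by
    rintro rfl
    exact hu1 (orderOf_eq_one_iff.mp (by simpa using hm))
  refine ⟨p ^ (m - 1), ?_⟩
  have h1 : 0 < orderOf u := orderOf_pos u
  rw [orderOf_pow' u (pow_ne_zero _ hp.pos.ne'), hm]
  have h2 : Nat.gcd (p ^ m) (p ^ (m - 1)) = p ^ (m - 1) :=
    Nat.gcd_eq_right (pow_dvd_pow p (Nat.sub_le m 1))
  rw [h2]
  have h3 : p ^ m = p ^ (m - 1) * p := by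
    rw [← pow_succ, Nat.sub_add_cancel (Nat.one_le_iff_ne_zero.mpr hm0)]
  rw [h3, Nat.mul_div_cancel_left _ (pow_pos hp.pos _)]

/-- Commuting nontrivial `p`- and `q`-elements. -/
theorem exists_mul_of_commute' {p q : ℕ} (hp : p.Prime) (hq : q.Prime) (hpq : p ≠ q)
    {P Q : Subgroup G} (hP : IsPGroup p P) (hQ : IsPGroup q Q) {u v : G} (hu : u ∈ P) (hv : v ∈ Q)
    (hu1 : u ≠ 1) (hv1 : v ≠ 1) (h : u * v = v * u) : ∃ x : G, orderOf x = p * q := by
  obtain ⟨k, hk⟩ := exists_orderOf_eq hp hP hu hu1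
  obtain ⟨l, hl⟩ := exists_orderOf_eq hq hQ hv hv1
  have hc : Commute u v := h
  exact exists_mul_of_commute hp hq hpq hk hl (hc.pow_pow k l)

/-- The local configuration: `Q` and an element `x` of order `r` act on the `p`-group `P`, `x` normalizes `Q`. -/
theorem core {p q r : ℕ} (hp : p.Prime) (hq : q.Prime) (hr : r.Prime) (hpq : p ≠ q) (hpr : p ≠ r)
    (hqr : q ≠ r) {P Q : Subgroup G} (hP : IsPGroup p P) (hQ : IsPGroup q Q) (hP1 : P ≠ ⊥)
    (hQ1 : Q ≠ ⊥) (hQP : Q ≤ normalizer (P : Set G)) {x : G} (hx : orderOf x = r)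
    (hxP : x ∈ normalizer (P : Set G)) (hxQ : x ∈ normalizer (Q : Set G)) :
    (∃ x : G, orderOf x = p * q) ∨ (∃ x : G, orderOf x = p * r) ∨ (∃ x : G, orderOf x = q * r) := by
  classical
  by_contra hcon
  push Not at hcon
  obtain ⟨h1, h2, h3⟩ := hcon
  have := Fact.mk hp
  have := Fact.mk hq
  have := Fact.mk hr
  set E : Subgroup G := zpowers x with hE
  have hER : IsPGroup r E := by
    intro y
    refine ⟨1, ?_⟩
    obtain ⟨y, hy⟩ := y
    obtain ⟨n, rfl⟩ := mem_zpowers_iff.mp hy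
    apply Subtype.ext
    simp only [pow_one, SubmonoidClass.mk_pow, OneMemClass.coe_one]
    rw [← zpow_natCast, ← zpow_mul, mul_comm, zpow_mul, zpow_natCast, ← hx, pow_orderOf_eq_one, one_zpow]
  have hE1 : E ≠ ⊥ := by
    intro h
    have : x = 1 := by
      have : x ∈ E := mem_zpowers x
      rw [h] at this
      exact this
    rw [this, orderOf_one] at hx
    exact hr.one_lt.ne hx
  have hEQ : E ≤ normalizer (Q : Set G) := by
    rw [hE, zpowers_le]; exact hxQ
  have hEP : E ≤ normalizer (P : Set G) := by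
    rw [hE, zpowers_le]; exact hxP
  have hcardP : ∃ a, Nat.card P = p ^ a := (IsPGroup.iff_card).mp hP
  have hcardQ : ∃ a, Nat.card Q = q ^ a := (IsPGroup.iff_card).mp hQ
  have hcardE : ∃ a, Nat.card E = r ^ a := (IsPGroup.iff_card).mp hER
  obtain ⟨a, ha⟩ := hcardP
  obtain ⟨b, hb⟩ := hcardQ
  obtain ⟨c, hc⟩ := hcardE
  have hsupdvd : Nat.card ↥(Q ⊔ E) ∣ q ^ b * r ^ c := by
    have h4 := Cfsg.Agent.OddOrderLocal.IdealPrime.card_sup_dvd E Q hEQ
    rw [hb, hc, sup_comm, mul_comm] at h4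
    exact h4
  have hcop : Nat.Coprime (Nat.card P) (Nat.card ↥(Q ⊔ E)) := by
    refine Nat.Coprime.coprime_dvd_right hsupdvd ?_
    rw [ha]
    refine Nat.Coprime.mul_right ?_ ?_
    · exact Nat.Coprime.pow _ _ ((Nat.coprime_primes hp hq).mpr hpq)
    · exact Nat.Coprime.pow _ _ ((Nat.coprime_primes hp hr).mpr hpr)
  have hS := Cfsg.Agent.S1545.result Q E P hQ1 hE1 ?_ ?_ ?_ ?_ ?_ ?_ hcop
  · have e1 : P ⊓ centralizer (Q : Set G) = ⊥ := by
      rw [eq_bot_iff]
      intro u hu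
      by_contra hu1
      obtain ⟨v, hv, hv1⟩ : ∃ v ∈ Q, v ≠ 1 := by
        by_contra hno
        push Not at hno
        exact hQ1 ((Subgroup.eq_bot_iff_forall Q).mpr hno)
      have hcomm : u * v = v * u := by
        have := (mem_centralizer_iff.mp (mem_inf.mp hu).2) v hv
        exact this.symm
      obtain ⟨y, hy⟩ := exists_mul_of_commute' hp hq hpq hP hQ (mem_inf.mp hu).1 hv
        (fun h => hu1 (mem_bot.mpr h)) hv1 hcomm
      exact h1 y hy
    have e2 : P ⊓ centralizer (E : Set G) = ⊥ := by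
      rw [eq_bot_iff]
      intro u hu
      by_contra hu1
      have hcomm : u * x = x * u := by
        have := (mem_centralizer_iff.mp (mem_inf.mp hu).2) x (mem_zpowers x)
        exact this.symm
      obtain ⟨y, hy⟩ := exists_mul_of_commute' hp hr hpr hP hER (mem_inf.mp hu).1 (mem_zpowers x)
        (fun h => hu1 (mem_bot.mpr h)) (fun h => by
          rw [h, orderOf_one] at hx; exact hr.one_lt.ne hx) hcomm
      exact h2 y hy
    have e3 : P ⊓ centralizer ((Q ⊔ E : Subgroup G) : Set G) = ⊥ := by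
      rw [eq_bot_iff, ← e1]
      exact inf_le_inf_left _ (centralizer_le (SetLike.coe_subset_coe.mpr le_sup_left))
    rw [e1, e2, e3] at hS
    simp only [Subgroup.card_bot, one_pow, one_mul] at hS
    exact hP1 (Subgroup.card_eq_one.mp hS)
  · -- Q ⊓ E = ⊥
    rw [← Subgroup.card_eq_one]
    have d1 : Nat.card ↥(Q ⊓ E) ∣ q ^ b := hb ▸ Subgroup.card_dvd_of_le inf_le_left
    have d2 : Nat.card ↥(Q ⊓ E) ∣ r ^ c := hc ▸ Subgroup.card_dvd_of_le inf_le_right
    have d3 : Nat.Coprime (q ^ b) (r ^ c) := Nat.Coprime.pow _ _ ((Nat.coprime_primes hq hr).mpr hqr)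
    exact Nat.eq_one_of_dvd_coprimes d3 d1 d2
  · intro e he u hu
    exact (mem_normalizer_iff.mp (hEQ he) u).mp hu
  · intro e he he1 u hu hcomm
    by_contra hu1
    obtain ⟨y, hy⟩ := exists_mul_of_commute' hq hr hqr hQ hER hu he hu1 he1 hcomm.symm
    exact h3 y hy
  · intro y hy h hh
    have : Q ⊔ E ≤ normalizer (P : Set G) := sup_le hQP hEP
    exact (mem_normalizer_iff.mp (this hy) h).mp hh
  · rw [← Subgroup.card_eq_one]
    exact Nat.eq_one_of_dvd_coprimes hcop (Subgroup.card_dvd_of_le inf_le_left)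
      (Subgroup.card_dvd_of_le inf_le_right)
  · have : Group.IsNilpotent P := hP.isNilpotent
    infer_instance

/-- Frattini: if `H ⊔ K = ⊤` and `K ≤ M`, `K` normal, then `[M : K]` divides the order of `M ⊓ H`. -/
theorem relIndex_dvd {H K M : Subgroup G} [K.Normal] (h : H ⊔ K = ⊤) (hKM : K ≤ M) :
    Nat.card M / Nat.card K ∣ Nat.card ↥(M ⊓ H : Subgroup G) := by
  have h1 : M = (M ⊓ H) ⊔ K := by
    refine le_antisymm ?_ (sup_le inf_le_left hKM)
    intro m hm
    have : m ∈ H ⊔ K := by rw [h]; trivial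
    rw [sup_comm, Subgroup.mem_sup_of_normal_left] at this
    obtain ⟨k, hk, y, hy, rfl⟩ := this
    have hy' : y ∈ M := by
      have := M.mul_mem (M.inv_mem (hKM hk)) hm
      simpa using this
    rw [sup_comm, Subgroup.mem_sup_of_normal_left]
    exact ⟨k, hk, y, ⟨hy', hy⟩, rfl⟩
  have h2 : Nat.card M / Nat.card K = K.relIndex M := by
    have h3 := Subgroup.card_mul_index (K.subgroupOf M)
    have h4 : Nat.card ↥(K.subgroupOf M) = Nat.card K :=
      Nat.card_congr (Subgroup.subgroupOfEquivOfLe hKM).toEquiv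
    rw [h4] at h3
    rw [← h3]
    exact Nat.mul_div_cancel_left _ Nat.card_pos
  have h5 : K.relIndex M = K.relIndex (M ⊓ H) := by
    conv_lhs => rw [h1]
    exact Subgroup.relIndex_sup_right (M ⊓ H) K
  rw [h2, h5]
  exact Subgroup.relIndex_dvd_card _ _

/-- The primes dividing the orders of the sections of a normal series of length three are not pairwise
non-adjacent. -/
theorem main (K M : Subgroup G) [K.Normal] [M.Normal] (hKM : K ≤ M)
    (p q r : ℕ) (hp : p.Prime) (hq : q.Prime) (hr : r.Prime) (hpq : p ≠ q) (hpr : p ≠ r) (hqr : q ≠ r)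
    (hpK : p ∣ Nat.card ↥K) (hqM : q ∣ Nat.card ↥M / Nat.card ↥K) (hrG : r ∣ Nat.card G / Nat.card ↥M) :
    (∃ x : G, orderOf x = p * q) ∨ (∃ x : G, orderOf x = p * r) ∨ (∃ x : G, orderOf x = q * r) := by
  classical
  have := Fact.mk hp
  have := Fact.mk hq
  have := Fact.mk hr
  obtain ⟨P⟩ : Nonempty (Sylow p K) := inferInstance
  set P' : Subgroup G := (P : Subgroup K).map K.subtype with hP'
  set N₁ : Subgroup G := normalizer (P' : Set G) with hN₁
  have hF1 : N₁ ⊔ K = ⊤ := Sylow.normalizer_sup_eq_top P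
  have hP'p : IsPGroup p P' := P.isPGroup'.map _
  have hP'1 : P' ≠ ⊥ := by
    intro h0
    have h1 : (P : Subgroup K) = ⊥ := by
      rw [hP', Subgroup.map_eq_bot_iff_of_injective _ K.subtype_injective] at h0
      exact h0
    have h2 := P.card_eq_multiplicity
    rw [h1, Subgroup.card_bot] at h2
    have h3 : (Nat.card K).factorization p = 0 := by
      by_contra hne
      exact (Nat.one_lt_pow hne hp.one_lt).ne h2
    have h4 := (Nat.Prime.factorization_pos_of_dvd hp (Nat.card_pos (α := K)).ne' hpK)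
    omega
  -- the Sylow q-subgroup of M ⊓ N₁
  set M₁ : Subgroup N₁ := M.subgroupOf N₁ with hM₁
  have hM₁n : M₁.Normal := Subgroup.normal_subgroupOf
  have hcM₁ : Nat.card M₁ = Nat.card ↥(M ⊓ N₁ : Subgroup G) := by
    rw [hM₁, ← Subgroup.inf_subgroupOf_right M N₁]
    exact Nat.card_congr (Subgroup.subgroupOfEquivOfLe inf_le_right).toEquiv
  have hqM₁ : q ∣ Nat.card M₁ := by
    rw [hcM₁]
    exact hqM.trans (relIndex_dvd hF1 hKM)
  obtain ⟨Q⟩ : Nonempty (Sylow q M₁) := inferInstance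
  set Q' : Subgroup N₁ := (Q : Subgroup M₁).map M₁.subtype with hQ'
  have hF2 : normalizer (Q' : Set N₁) ⊔ M₁ = ⊤ := Sylow.normalizer_sup_eq_top Q
  have hQ'q : IsPGroup q Q' := Q.isPGroup'.map _
  have hQ'1 : Q' ≠ ⊥ := by
    intro h0
    have h1 : (Q : Subgroup M₁) = ⊥ := by
      rw [hQ', Subgroup.map_eq_bot_iff_of_injective _ M₁.subtype_injective] at h0
      exact h0
    have h2 := Q.card_eq_multiplicity
    rw [h1, Subgroup.card_bot] at h2
    have h3 : (Nat.card M₁).factorization q = 0 := by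
      by_contra hne
      exact (Nat.one_lt_pow hne hq.one_lt).ne h2
    have h4 := (Nat.Prime.factorization_pos_of_dvd hq (Nat.card_pos (α := M₁)).ne' hqM₁)
    omega
  -- r divides the order of N_{N₁}(Q')
  have hN₁M : N₁ ⊔ M = ⊤ := by
    rw [eq_top_iff, ← hF1]
    exact sup_le_sup_left hKM _
  have hr1 : r ∣ Nat.card N₁ / Nat.card M₁ := by
    have e1 : Nat.card G / Nat.card M = M.relIndex ⊤ := by
      rw [Subgroup.relIndex_top_right]
      have := Subgroup.card_mul_index M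
      rw [← this]
      exact Nat.mul_div_cancel_left _ Nat.card_pos
    have e2 : M.relIndex ⊤ = M.relIndex N₁ := by
      rw [← hN₁M]
      exact Subgroup.relIndex_sup_right N₁ M
    have e3 : Nat.card N₁ / Nat.card M₁ = M.relIndex N₁ := by
      have := Subgroup.card_mul_index M₁
      rw [← this]
      exact Nat.mul_div_cancel_left _ Nat.card_pos
    rw [e3, ← e2, ← e1]
    exact hrG
  have hr2 : r ∣ Nat.card ↥(normalizer (Q' : Set N₁)) := by
    have h1 : Nat.card N₁ / Nat.card M₁ ∣ Nat.card ↥((⊤ : Subgroup N₁) ⊓ normalizer (Q' : Set N₁) : Subgroup N₁) := by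
      have := relIndex_dvd (H := normalizer (Q' : Set N₁)) (K := M₁) (M := ⊤) hF2 le_top
      rwa [Subgroup.card_top] at this
    rw [top_inf_eq] at h1
    exact hr1.trans h1
  obtain ⟨x, hx⟩ := exists_prime_orderOf_dvd_card' r hr2
  -- transfer to G
  have hx' : orderOf ((x : N₁) : G) = r := by
    rw [Subgroup.orderOf_coe, Subgroup.orderOf_coe, hx]
  set Q'' : Subgroup G := Q'.map N₁.subtype with hQ''
  have hQ''1 : Q'' ≠ ⊥ := by
    rw [hQ'']
    intro h
    rw [Subgroup.map_eq_bot_iff_of_injective _ N₁.subtype_injective] at h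
    exact hQ'1 h
  refine core hp hq hr hpq hpr hqr hP'p (hQ'q.map _) hP'1 hQ''1 ?_ hx' (x : N₁).2 ?_
  · rw [← hN₁]
    rintro _ ⟨y, -, rfl⟩
    exact y.2
  · rw [Subgroup.mem_normalizer_iff]
    intro g
    constructor
    · rintro ⟨y, hy, rfl⟩
      exact ⟨(x : N₁) * y * (x : N₁)⁻¹, (mem_normalizer_iff.mp x.2 y).mp hy, by simp⟩
    · rintro ⟨y, hy, hyg⟩
      refine ⟨(x : N₁)⁻¹ * y * (x : N₁), ?_, ?_⟩
      · have := (mem_normalizer_iff.mp x.2 ((x : N₁)⁻¹ * y * (x : N₁))).mpr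
        apply this
        have e : (x : N₁) * ((x : N₁)⁻¹ * y * (x : N₁)) * (x : N₁)⁻¹ = y := by group
        rw [e]; exact hy
      · simp only [Subgroup.coe_subtype, Subgroup.coe_mul, Subgroup.coe_inv] at hyg ⊢
        rw [hyg]; group

theorem div_eq_relIndex {K M : Subgroup G} (hKM : K ≤ M) : Nat.card M / Nat.card K = K.relIndex M := by
  have h3 := Subgroup.card_mul_index (K.subgroupOf M)
  have h4 : Nat.card ↥(K.subgroupOf M) = Nat.card K :=
    Nat.card_congr (Subgroup.subgroupOfEquivOfLe hKM).toEquiv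
  rw [h4] at h3
  rw [← h3]
  exact Nat.mul_div_cancel_left _ Nat.card_pos

theorem div_eq_index (M : Subgroup G) : Nat.card G / Nat.card M = M.index := by
  have := Subgroup.card_mul_index M
  rw [← this]
  exact Nat.mul_div_cancel_left _ Nat.card_pos

/-- `main` with indices. -/
theorem main' (K M : Subgroup G) [K.Normal] [M.Normal] (hKM : K ≤ M)
    (p q r : ℕ) (hp : p.Prime) (hq : q.Prime) (hr : r.Prime) (hpq : p ≠ q) (hpr : p ≠ r) (hqr : q ≠ r)
    (hpK : p ∣ Nat.card ↥K) (hqM : q ∣ K.relIndex M) (hrG : r ∣ M.index) :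
    (∃ x : G, orderOf x = p * q) ∨ (∃ x : G, orderOf x = p * r) ∨ (∃ x : G, orderOf x = q * r) :=
  main K M hKM p q r hp hq hr hpq hpr hqr hpK ((div_eq_relIndex hKM).symm ▸ hqM)
    ((div_eq_index M).symm ▸ hrG)

omit [Finite G] in
theorem commutator_lt {K : Subgroup G} (hK : Group.IsSolvable K) (h1 : K ≠ ⊥) : ⁅K, K⁆ < K := by
  have hnt : Nontrivial K := (Subgroup.nontrivial_iff_ne_bot K).mpr h1
  refine lt_of_le_of_ne (Subgroup.commutator_le_self K) ?_
  intro h
  have h2 : (_root_.commutator K).map K.subtype = ⁅K, K⁆ := Subgroup.map_subtype_commutator K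
  rw [h] at h2
  have h3 : (_root_.commutator K) = ⊤ := by
    apply Subgroup.map_injective K.subtype_injective
    rw [h2, ← MonoidHom.range_eq_map, Subgroup.range_subtype]
  exact (IsSolvable.commutator_lt_top_of_nontrivial K).ne h3

/-- A solvable normal subgroup whose order is divisible by one of two primes contains a normal subgroup of
`G` whose order is divisible by exactly one of them. -/
theorem exists_sep {b c : ℕ} (hb : b.Prime) (hc : c.Prime) (hbc : b ≠ c) :
    ∀ (n : ℕ) (K : Subgroup G), K.Normal → Group.IsSolvable K → Nat.card K = n →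
      (b ∣ Nat.card K ∨ c ∣ Nat.card K) →
      ∃ M : Subgroup G, M.Normal ∧ M ≤ K ∧
        ((b ∣ Nat.card M ∧ ¬ c ∣ Nat.card M) ∨ (c ∣ Nat.card M ∧ ¬ b ∣ Nat.card M)) := by
  classical
  intro n
  induction n using Nat.strong_induction_on with
  | _ n ih =>
  intro K hKn hK hn hbcK
  by_cases hb1 : b ∣ Nat.card K
  swap
  · exact ⟨K, hKn, le_rfl, Or.inr ⟨hbcK.resolve_left hb1, hb1⟩⟩
  by_cases hc1 : c ∣ Nat.card K
  swap
  · exact ⟨K, hKn, le_rfl, Or.inl ⟨hb1, hc1⟩⟩
  have hK1 : K ≠ ⊥ := by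
    rintro rfl
    rw [Subgroup.card_bot] at hb1
    exact hb.one_lt.ne' (Nat.dvd_one.mp hb1)
  have hlt : ⁅K, K⁆ < K := commutator_lt hK hK1
  have hDn : (⁅K, K⁆ : Subgroup G).Normal := Subgroup.commutator_normal K K
  by_cases hD : b ∣ Nat.card ↥(⁅K, K⁆ : Subgroup G) ∨ c ∣ Nat.card ↥(⁅K, K⁆ : Subgroup G)
  · have hcard : Nat.card ↥(⁅K, K⁆ : Subgroup G) < n := by
      rw [← hn]
      refine lt_of_le_of_ne (Subgroup.card_le_of_le hlt.le) ?_
      intro h
      exact hlt.ne (Subgroup.eq_of_le_of_card_ge hlt.le h.ge)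
    have hDs : Group.IsSolvable ↥(⁅K, K⁆ : Subgroup G) :=
      Group.isSolvable_of_isSolvable_injective (Subgroup.inclusion_injective hlt.le)
    obtain ⟨M, hM1, hM2, hM3⟩ := ih _ hcard ⁅K, K⁆ hDn hDs rfl hD
    exact ⟨M, hM1, hM2.trans hlt.le, hM3⟩
  · push Not at hD
    obtain ⟨hDb, hDc⟩ := hD
    have hcomm : ∀ x ∈ K, ∀ y ∈ K, Commute (QuotientGroup.mk' ⁅K, K⁆ x) (QuotientGroup.mk' ⁅K, K⁆ y) := by
      intro x hx y hy
      have h1 : QuotientGroup.mk' ⁅K, K⁆ (x * y * x⁻¹ * y⁻¹) = 1 := by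
        rw [← MonoidHom.mem_ker, QuotientGroup.ker_mk']
        exact Subgroup.commutator_mem_commutator hx hy
      rw [map_mul, map_mul, map_mul, map_inv, map_inv, mul_inv_eq_one, mul_inv_eq_iff_eq_mul] at h1
      exact h1
    let B : Subgroup G :=
      { carrier := {x | x ∈ K ∧ ∃ k : ℕ, (QuotientGroup.mk' ⁅K, K⁆ x) ^ b ^ k = 1}
        mul_mem' := by
          rintro x y ⟨hx, k, hk⟩ ⟨hy, l, hl⟩
          refine ⟨K.mul_mem hx hy, k + l, ?_⟩
          rw [map_mul, (hcomm x hx y hy).mul_pow, pow_add, pow_mul, hk, mul_comm, pow_mul, hl]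
          simp
        one_mem' := ⟨K.one_mem, 0, by simp⟩
        inv_mem' := by
          rintro x ⟨hx, k, hk⟩
          exact ⟨K.inv_mem hx, k, by rw [map_inv, inv_pow, hk, inv_one]⟩ }
    have hBn : B.Normal := by
      refine Subgroup.Normal.mk ?_
      intro x hx g
      obtain ⟨hxK, k, hk⟩ : x ∈ K ∧ ∃ k : ℕ, (QuotientGroup.mk' ⁅K, K⁆ x) ^ b ^ k = 1 := hx
      refine ⟨hKn.conj_mem x hxK g, k, ?_⟩
      rw [map_mul, map_mul, map_inv, conj_pow, hk]
      simp
    refine ⟨B, hBn, fun x hx => hx.1, Or.inl ⟨?_, ?_⟩⟩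
    · have := Fact.mk hb
      obtain ⟨x, hx⟩ := exists_prime_orderOf_dvd_card' b hb1
      have hxB : (x : G) ∈ B := by
        refine ⟨x.2, 1, ?_⟩
        have h1 : (x : G) ^ b = 1 := by
          have := pow_orderOf_eq_one x
          rw [hx] at this
          exact congrArg Subtype.val this
        rw [pow_one, ← map_pow, h1, map_one]
      have h2 : orderOf (⟨(x : G), hxB⟩ : B) = b := by
        rw [← Subgroup.orderOf_coe]
        exact (Subgroup.orderOf_coe x).trans hx
      rw [← h2]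
      exact orderOf_dvd_natCard _
    · intro hcB
      have := Fact.mk hc
      obtain ⟨y, hy⟩ := exists_prime_orderOf_dvd_card' c hcB
      obtain ⟨hyK, k, hk⟩ := y.2
      have hyo : orderOf (y : G) = c := by rw [Subgroup.orderOf_coe, hy]
      have h1 : (y : G) ∈ (⁅K, K⁆ : Subgroup G) := by
        have h2 : orderOf (QuotientGroup.mk' ⁅K, K⁆ (y : G)) ∣ b ^ k := orderOf_dvd_of_pow_eq_one hk
        have h3 : orderOf (QuotientGroup.mk' ⁅K, K⁆ (y : G)) ∣ c := by
          rw [← hyo]; exact orderOf_map_dvd _ _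
        have h4 : orderOf (QuotientGroup.mk' ⁅K, K⁆ (y : G)) = 1 :=
          Nat.eq_one_of_dvd_coprimes (Nat.Coprime.pow_left k ((Nat.coprime_primes hb hc).mpr hbc)) h2 h3
        rw [orderOf_eq_one_iff, ← MonoidHom.mem_ker, QuotientGroup.ker_mk'] at h4
        exact h4
      apply hDc
      have h5 : orderOf (⟨(y : G), h1⟩ : ↥(⁅K, K⁆ : Subgroup G)) = c := by
        rw [← Subgroup.orderOf_coe]; exact hyo
      rw [← h5]
      exact orderOf_dvd_natCard _

/-- The same between two normal subgroups. -/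
theorem exists_sep' {b c : ℕ} (hb : b.Prime) (hc : c.Prime) (hbc : b ≠ c) (L K : Subgroup G) [L.Normal]
    [K.Normal] (hK : Group.IsSolvable K) (hLK : L ≤ K) (hd : b ∣ L.relIndex K ∨ c ∣ L.relIndex K) :
    ∃ M : Subgroup G, M.Normal ∧ L ≤ M ∧ M ≤ K ∧
        ((b ∣ L.relIndex M ∧ ¬ c ∣ L.relIndex M) ∨ (c ∣ L.relIndex M ∧ ¬ b ∣ L.relIndex M)) := by
  have key : ∀ X : Subgroup G, L.relIndex X = Nat.card (X.map (QuotientGroup.mk' L)) := by
    intro X
    have := Subgroup.relIndex_ker X (QuotientGroup.mk' L)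
    rwa [QuotientGroup.ker_mk'] at this
  have hKn : (K.map (QuotientGroup.mk' L)).Normal :=
    Subgroup.Normal.map inferInstance _ (QuotientGroup.mk'_surjective L)
  have hKs : Group.IsSolvable ↥(K.map (QuotientGroup.mk' L)) :=
    Group.isSolvable_of_surjective ((QuotientGroup.mk' L).subgroupMap_surjective K)
  rw [key K] at hd
  obtain ⟨M, hM1, hM2, hM3⟩ := exists_sep hb hc hbc _ (K.map (QuotientGroup.mk' L)) hKn hKs rfl hd
  refine ⟨M.comap (QuotientGroup.mk' L), hM1.comap _, ?_, ?_, ?_⟩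
  · intro x hx
    rw [Subgroup.mem_comap]
    have : QuotientGroup.mk' L x = 1 := by
      rw [← MonoidHom.mem_ker, QuotientGroup.ker_mk']; exact hx
    rw [this]; exact M.one_mem
  · intro x hx
    rw [Subgroup.mem_comap] at hx
    obtain ⟨k, hk, hkx⟩ := hM2 hx
    have h1 : QuotientGroup.mk' L (k⁻¹ * x) = 1 := by
      rw [map_mul, map_inv, hkx]; simp
    rw [← MonoidHom.mem_ker, QuotientGroup.ker_mk'] at h1
    have h2 := K.mul_mem hk (hLK h1)
    simpa using h2
  · rw [key, Subgroup.map_comap_eq_self_of_surjective (QuotientGroup.mk'_surjective L)]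
    exact hM3

/-- A solvable normal subgroup has order divisible by at most one prime of a coclique of size `≥ 3`. -/
theorem coclique {r s t : ℕ} (hr : r.Prime) (hs : s.Prime) (ht : t.Prime) (hrs : r ≠ s) (hrt : r ≠ t)
    (hst : s ≠ t) (h1 : ¬ ∃ x : G, orderOf x = r * s) (h2 : ¬ ∃ x : G, orderOf x = r * t)
    (h3 : ¬ ∃ x : G, orderOf x = s * t) (K : Subgroup G) [K.Normal] (hK : Group.IsSolvable K)
    (hrK : r ∣ Nat.card K) (hsK : s ∣ Nat.card K) (htG : t ∣ Nat.card G) : False := by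
  have h1' : ¬ ∃ x : G, orderOf x = s * r := by rwa [mul_comm]
  have h2' : ¬ ∃ x : G, orderOf x = t * r := by rwa [mul_comm]
  have h3' : ¬ ∃ x : G, orderOf x = t * s := by rwa [mul_comm]
  -- no normal series with three factors
  have key : ∀ a b c : ℕ, a ∈ ({r, s, t} : Set ℕ) → b ∈ ({r, s, t} : Set ℕ) → c ∈ ({r, s, t} : Set ℕ) →
      a ≠ b → a ≠ c → b ≠ c → ∀ X Y : Subgroup G, X.Normal → Y.Normal → X ≤ Y →
      a ∣ Nat.card X → b ∣ X.relIndex Y → c ∣ Y.index → False := by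
    intro a b c ha hb hc hab hac hbc X Y hX hY hXY d1 d2 d3
    have hprime : ∀ n ∈ ({r, s, t} : Set ℕ), n.Prime := by
      rintro n (rfl | rfl | rfl) <;> assumption
    have hno : ∀ m ∈ ({r, s, t} : Set ℕ), ∀ n ∈ ({r, s, t} : Set ℕ), m ≠ n → ¬ ∃ x : G, orderOf x = m * n := by
      rintro m (rfl | rfl | rfl) n (rfl | rfl | rfl) hmn <;>
        first | exact absurd rfl hmn | assumption
    rcases main' X Y hXY a b c (hprime a ha) (hprime b hb) (hprime c hc) hab hac hbc d1 d2 d3 with h | h | h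
    · exact hno a ha b hb hab h
    · exact hno a ha c hc hac h
    · exact hno b hb c hc hbc h
  have mr : r ∈ ({r, s, t} : Set ℕ) := Or.inl rfl
  have ms : s ∈ ({r, s, t} : Set ℕ) := Or.inr (Or.inl rfl)
  have mt : t ∈ ({r, s, t} : Set ℕ) := Or.inr (Or.inr rfl)
  -- splitting of divisibility
  have split : ∀ (n : ℕ), n.Prime → ∀ X Y : Subgroup G, X ≤ Y → n ∣ Nat.card Y → ¬ n ∣ Nat.card X →
      n ∣ X.relIndex Y := by
    intro n hn X Y hXY h4 h5
    have h6 : Nat.card X * X.relIndex Y = Nat.card Y := by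
      rw [← div_eq_relIndex hXY]
      exact Nat.mul_div_cancel' (Subgroup.card_dvd_of_le hXY)
    rw [← h6] at h4
    exact (hn.dvd_mul.mp h4).resolve_left h5
  have split' : ∀ (n : ℕ), n.Prime → ∀ X Y : Subgroup G, X ≤ Y → n ∣ X.index → ¬ n ∣ X.relIndex Y →
      n ∣ Y.index := by
    intro n hn X Y hXY h4 h5
    rw [← Subgroup.relIndex_mul_index hXY] at h4
    exact (hn.dvd_mul.mp h4).resolve_left h5
  have splitG : ∀ (n : ℕ), n.Prime → ∀ X : Subgroup G, n ∣ Nat.card G → ¬ n ∣ Nat.card X → n ∣ X.index := by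
    intro n hn X h4 h5
    rw [← Subgroup.card_mul_index X] at h4
    exact (hn.dvd_mul.mp h4).resolve_left h5
  -- a general step: `a` divides `|X|`, `b`, `c` do not divide `|X|` but divide `|K|`
  have hrG : r ∣ Nat.card G := hrK.trans (Subgroup.card_subgroup_dvd_card K)
  have hsG : s ∣ Nat.card G := hsK.trans (Subgroup.card_subgroup_dvd_card K)
  -- two primes `a`, `b` dividing the order of a solvable normal subgroup `X`, `c` divides its index
  have step1 : ∀ a b c : ℕ, a.Prime → b.Prime → c.Prime →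
      a ∈ ({r, s, t} : Set ℕ) → b ∈ ({r, s, t} : Set ℕ) → c ∈ ({r, s, t} : Set ℕ) →
      a ≠ b → a ≠ c → b ≠ c → ∀ X : Subgroup G, X.Normal → Group.IsSolvable X →
      a ∣ Nat.card X → b ∣ Nat.card X → c ∣ X.index → False := by
    intro a b c pa pb pc ha hb hc hab hac hbc X hX hXs d1 d2 d3
    obtain ⟨M, hM1, hM2, (⟨h5, h6⟩ | ⟨h5, h6⟩)⟩ := exists_sep pa pb hab _ X hX hXs rfl (Or.inl d1)
    · exact key a b c ha hb hc hab hac hbc M X hM1 hX hM2 h5 (split b pb M X hM2 d2 h6) d3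
    · exact key b a c hb ha hc hab.symm hbc hac M X hM1 hX hM2 h5 (split a pa M X hM2 d1 h6) d3
  -- `a` divides the order of a normal subgroup `X ≤ K`, `b` and `c` divide `[K : X]`
  have step2 : ∀ a b c : ℕ, a.Prime → b.Prime → c.Prime →
      a ∈ ({r, s, t} : Set ℕ) → b ∈ ({r, s, t} : Set ℕ) → c ∈ ({r, s, t} : Set ℕ) →
      a ≠ b → a ≠ c → b ≠ c → ∀ X : Subgroup G, X.Normal → X ≤ K →
      a ∣ Nat.card X → b ∣ X.relIndex K → c ∣ X.relIndex K → False := by
    intro a b c pa pb pc ha hb hc hab hac hbc X hX hXK d1 d2 d3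
    have d2' : b ∣ X.index := by
      rw [← Subgroup.relIndex_mul_index hXK]; exact Dvd.dvd.mul_right d2 _
    have d3' : c ∣ X.index := by
      rw [← Subgroup.relIndex_mul_index hXK]; exact Dvd.dvd.mul_right d3 _
    obtain ⟨M, hM1, hM0, hM2, (⟨h5, h6⟩ | ⟨h5, h6⟩)⟩ := exists_sep' pb pc hbc X K hK hXK (Or.inl d2)
    · exact key a b c ha hb hc hab hac hbc X M hX hM1 hM0 d1 h5 (split' c pc X M hM0 d3' h6)
    · exact key a c b ha hc hb hac hab hbc.symm X M hX hM1 hM0 d1 h5 (split' b pb X M hM0 d2' h6)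
  -- the general case for `M ≤ K` with `a ∣ |M|`, `b ∤ |M|`
  have step3 : ∀ a b : ℕ, a.Prime → b.Prime → a ∈ ({r, s, t} : Set ℕ) → b ∈ ({r, s, t} : Set ℕ) →
      a ≠ b → a ≠ t → b ≠ t → a ∣ Nat.card K → b ∣ Nat.card K → ∀ M : Subgroup G, M.Normal → M ≤ K →
      a ∣ Nat.card M → ¬ b ∣ Nat.card M → False := by
    intro a b pa pb ha hb hab hat hbt daK dbK M hM1 hM2 h5 h6
    by_cases htK : t ∣ K.index
    · exact key a b t ha hb mt hab hat hbt M K hM1 inferInstance hM2 h5 (split b pb M K hM2 dbK h6) htK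
    · have htK' : t ∣ Nat.card K := by
        by_contra h
        exact htK (splitG t ht K htG h)
      by_cases htM : t ∣ Nat.card M
      · refine step1 a t b pa ht pb ha mt hb hat hab hbt.symm M hM1
          (Group.isSolvable_of_isSolvable_injective (Subgroup.inclusion_injective hM2)) h5 htM ?_
        exact splitG b pb M (dbK.trans (Subgroup.card_subgroup_dvd_card K)) h6
      · exact step2 a b t pa pb ht ha hb mt hab hat hbt M hM1 hM2 h5 (split b pb M K hM2 dbK h6)
          (split t ht M K hM2 htK' htM)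
  obtain ⟨M, hM1, hM2, (⟨h5, h6⟩ | ⟨h5, h6⟩)⟩ := exists_sep hr hs hrs _ K inferInstance hK rfl (Or.inl hrK)
  · exact step3 r s hr hs mr ms hrs hrt hst hrK hsK M hM1 hM2 h5 h6
  · exact step3 s r hs hr ms mr hrs.symm hst hrt hsK hrK M hM1 hM2 h5 h6

end Cfsg.Agent.H395.Coclique
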