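import Mathlib

/-!
Jordan's theorem: a finite transitive permutation group of degree at least two contains an
element without fixed points; equivalently, a finite group is not the union of the conjugates of
a proper subgroup.
-/

set_option autoImplicit false

namespace Cfsg.Agent.H395.Jordan

open MulAction

/-- **Jordan**: a finite transitive group of degree at least two has a derangement. -/
theorem exists_derangement {G X : Type*} [Group G] [Finite G] [MulAction G X] [Finite X]
    (ht : IsPretransitive G X) (h2 : 2 ≤ Nat.card X) : ∃ g : G, ∀ x : X, g • x ≠ x := by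
  classical
  by_contra hcon
  push Not at hcon
  have : Fintype G := Fintype.ofFinite G
  have : Fintype X := Fintype.ofFinite X
  have hne : Nonempty X := by
    rw [← not_isEmpty_iff]
    intro h
    rw [Nat.card_of_isEmpty] at h2
    omega
  have horb : Fintype.card (orbitRel.Quotient G X) = 1 := by
    have hsub : Subsingleton (orbitRel.Quotient G X) := by
      refine ⟨fun a b => ?_⟩
      induction a using Quotient.inductionOn'
      induction b using Quotient.inductionOn'
      rename_i a b
      refine Quotient.sound' ?_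
      obtain ⟨g, hg⟩ := ht.exists_smul_eq b a
      exact ⟨g, hg⟩
    have hnon : Nonempty (orbitRel.Quotient G X) := by
      obtain ⟨x⟩ := hne
      exact ⟨Quotient.mk'' x⟩
    exact Fintype.card_eq_one_iff_nonempty_unique.mpr ⟨⟨⟨hnon.some⟩, fun _ => Subsingleton.elim _ _⟩⟩
  have hb := sum_card_fixedBy_eq_card_orbits_mul_card_group G X
  rw [horb, one_mul] at hb
  have h1 : ∀ g : G, 1 ≤ Fintype.card (fixedBy X g) := by
    intro g
    obtain ⟨x, hx⟩ := hcon g
    exact Fintype.card_pos_iff.mpr ⟨⟨x, hx⟩⟩
  have h3 : 2 ≤ Fintype.card (fixedBy X (1 : G)) := by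
    rw [← Nat.card_eq_fintype_card]
    have : Nat.card (fixedBy X (1 : G)) = Nat.card X := by
      refine Nat.card_congr ⟨fun x => x.1, fun x => ⟨x, one_smul G x⟩, fun _ => rfl, fun _ => rfl⟩
    rw [this]
    exact h2
  have h4 : ∑ g : G, 1 < ∑ g : G, Fintype.card (fixedBy X g) :=
    Finset.sum_lt_sum (fun g _ => h1 g) ⟨1, Finset.mem_univ _, h3⟩
  rw [hb] at h4
  simp at h4

/-- A finite group is not the union of the conjugates of a proper subgroup. -/
theorem exists_not_conj_mem {G : Type*} [Group G] [Finite G] {H : Subgroup G} (hH : H ≠ ⊤) :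
    ∃ x : G, ∀ g : G, g⁻¹ * x * g ∉ H := by
  have h2 : 2 ≤ Nat.card (G ⧸ H) := by
    have h0 : Nat.card (G ⧸ H) ≠ 0 := Nat.card_pos.ne'
    have h1 : Nat.card (G ⧸ H) ≠ 1 := by
      intro h
      exact hH (Subgroup.index_eq_one.mp h)
    omega
  obtain ⟨x, hx⟩ := exists_derangement (G := G) (X := G ⧸ H) inferInstance h2
  refine ⟨x, fun g hg => hx (g : G ⧸ H) ?_⟩
  have h3 : (x • (g : G ⧸ H)) = ((x * g : G) : G ⧸ H) := rfl
  rw [h3, eq_comm, QuotientGroup.eq]
  simpa [mul_assoc] using hg

end Cfsg.Agent.H395.Jordan
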