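import Cfsg.Agent.H395.PFJ2Cfg
import Cfsg.Agent.KFacts.J2.Facts
import Cfsg.Agent.S1619

/-!
# Every proper subgroup of `J2` misses a prime (helper395, for `S3522`)

The subgroups of order divisible by 5 and 7 would have `A7`, `A8`, `L4(2)` or `L3(4)` on top.
-/

set_option autoImplicit false

namespace Cfsg.Agent.H395.PF

open Subgroup
open Cfsg.Agent.OrdDiv Cfsg.Agent.H257.El

universe u

theorem self_seven {G : Type*} [Group G] [Finite G] {z u : G} (h : J2Type.Base.Fus z u) : H604.Sax.SelfC G 7 := by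
  have : Fact (Nat.Prime 7) := ⟨by norm_num⟩
  intro x hx
  have hc : Nat.card G = 604800 := J2Type.Order.card_of_fus h
  have hZ : IsPGroup 7 (zpowers x) := by
    rw [IsPGroup.iff_card]
    exact ⟨1, by rw [Nat.card_zpowers, hx, pow_one]⟩
  obtain ⟨P, hP⟩ := hZ.exists_le_sylow
  obtain ⟨k, hk⟩ := IsPGroup.iff_card.1 P.2
  have h3 : k < 2 := by
    by_contra hlt
    push Not at hlt
    have h4 : 7 ^ 2 ∣ Nat.card G := (pow_dvd_pow 7 hlt).trans (hk ▸ card_subgroup_dvd_card _)
    rw [hc] at h4
    norm_num at h4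
  have hPe : zpowers x = (P : Subgroup G) := by
    apply eq_of_le_of_card_ge hP
    rw [hk, Nat.card_zpowers, hx]
    calc 7 ^ k ≤ 7 ^ 1 := Nat.pow_le_pow_right (by norm_num) (by omega)
      _ = 7 := pow_one 7
  have h1 := (J2Type.ThreeF.sylow_seven h P).1
  have h2 : centralizer ({x} : Set G) = centralizer ((P : Subgroup G) : Set G) := by
    rw [← hPe]
    ext g
    rw [mem_centralizer_singleton_iff, mem_centralizer_iff]
    constructor
    · rintro hg y hy
      obtain ⟨j, rfl⟩ := mem_zpowers_iff.1 hy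
      exact ((show Commute g x from hg).zpow_right j).eq.symm
    · intro hg
      exact (hg x (mem_zpowers x)).symm
  rw [h2, h1, ← hPe, Nat.card_zpowers, hx]

theorem surv_j2 : surv 604800 [(2, 7), (3, 3), (5, 2), (7, 1)] 7 [5] = [.alt 7, .alt 8, .psl 4 2, .psl 3 4] := by
  decide +kernel

theorem exists_omega {F : Type*} [Field F] [Fintype F] (h : Fintype.card F = 4) :
    ∃ w : F, w ^ 2 + w + 1 = 0 ∧ (2 : F) = 0 := by
  have h2 : (2 : F) = 0 := by
    have h3 : ((4 : ℕ) : F) = 0 := by
      rw [← h]; exact Nat.cast_card_eq_zero F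
    have h4 : (2 : F) * 2 = 0 := by
      have h5 : (2 : F) * 2 = ((4 : ℕ) : F) := by norm_num
      rw [h5, h3]
    exact mul_self_eq_zero.1 h4
  classical
  have h1 : ∃ w : F, w ≠ 0 ∧ w ≠ 1 := by
    by_contra hn
    push Not at hn
    have h3 : (Finset.univ : Finset F) ⊆ {0, 1} := by
      intro w _
      by_cases hw : w = 0
      · simp [hw]
      · simp [hn w hw]
    have h4 := Finset.card_le_card h3
    rw [Finset.card_univ, h] at h4
    have h5 := Finset.card_le_two (a := (0 : F)) (b := 1)
    omega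
  obtain ⟨w, hw0, hw1⟩ := h1
  refine ⟨w, ?_, h2⟩
  have h3 : w ^ 3 = 1 := by
    have := FiniteField.pow_card_sub_one_eq_one w hw0
    rwa [h] at this
  have h4 : (w - 1) * (w ^ 2 + w + 1) = 0 := by linear_combination h3
  exact (mul_eq_zero.1 h4).resolve_left (sub_ne_zero.2 hw1)

/-- the prime form -/
theorem miss_j2 (tab : OrderTable.{u}) (known : Known.{u}) {T : Type u} [Group T] (h : Spor.IsoJ2 T) {R : Subgroup T}
    (hR : R ≠ ⊤) : ∃ p : ℕ, p.Prime ∧ p ∣ Nat.card T ∧ ¬ p ∣ Nat.card R := by
  have hc : Nat.card T = 604800 := by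
    obtain ⟨e⟩ := h
    rw [Nat.card_congr e.toEquiv, S1619.result.2.2.2]
  have hfin : Finite T := Nat.finite_of_card_ne_zero (by rw [hc]; norm_num)
  obtain ⟨t, w, Q, v, ρ, D⟩ := Cfsg.Agent.KFacts.J2.Facts.exists_dat_of h
  by_contra hall
  push Not at hall
  rw [hc] at hall
  have S : H604.Sax.Ful T 604800 [(2, 7), (3, 3), (5, 2), (7, 1)] 7 R :=
    { tab := tab
      known := known
      card := hc
      valid := by decide +kernel
      prime := by norm_num
      dvd := by norm_num
      sq := by norm_num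
      self := self_seven D.F
      ne := hR
      full := hall }
  obtain ⟨O, hO, N, g, ht, hg, hr, hcN, hcR, hOd, hq, -⟩ := S.exists_main (s := 5) (by norm_num) (by decide +kernel)
  have h3 : ¬ 3 ∣ Nat.card O := by
    intro hd
    have h0 : Nat.card O ≠ 0 := Nat.card_pos.ne'
    have h1 : 1 ≤ (Nat.card O).factorization 3 := (Nat.prime_three.pow_dvd_iff_le_factorization (k := 1) h0).1 (by
      rwa [pow_one])
    have h4 : Nat.card O ∣ 604800 := by
      rw [← hc]
      exact (Subgroup.card_subgroup_dvd_card O).trans (Subgroup.card_subgroup_dvd_card R)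
    have h5 : (Nat.card O).factorization 3 ≤ 3 := by
      by_contra hlt
      have h6 : 3 ^ 4 ∣ Nat.card O := (Nat.prime_three.pow_dvd_iff_le_factorization h0).2 (by omega)
      have h7 := h6.trans h4
      norm_num at h7
    have h6 := hq 3 Nat.prime_three (by norm_num)
    generalize (Nat.card O).factorization 3 = b at h1 h5 h6
    interval_cases b <;> simp_all
  apply not_cfg D.F
  have hN : Cfg N := by
    rw [surv_j2] at hg
    simp only [List.mem_cons, List.not_mem_nil, or_false] at hg
    rcases hg with rfl | rfl | rfl | rfl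
    · obtain ⟨f⟩ := hr
      exact cfg_a7.map f.symm.toMonoidHom f.symm.injective
    · obtain ⟨f⟩ := hr
      exact cfg_a8.map f.symm.toMonoidHom f.symm.injective
    · obtain ⟨F, _, _, hF, ⟨f⟩⟩ := hr
      have h2 : (2 : F) = 0 := by
        have h3 : ((2 : ℕ) : F) = 0 := by
          rw [← hF]; exact Nat.cast_card_eq_zero F
        exact_mod_cast h3
      exact (cfg_psl42 h2).map f.symm.toMonoidHom f.symm.injective
    · obtain ⟨F, _, _, hF, ⟨f⟩⟩ := hr
      obtain ⟨w, hw, h2⟩ := exists_omega hF
      exact (cfg_psl34 w hw h2).map f.symm.toMonoidHom f.symm.injective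
  have hRO : Cfg (R ⧸ O) := hN.map N.subtype N.subtype_injective
  exact (hRO.of_quotient O h3).map R.subtype R.subtype_injective

end Cfsg.Agent.H395.PF
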