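import Cfsg.Agent.H508.KB.Defs
import Cfsg.Agent.Characters.Clifford

/-!
# S4822: the type of a character is well defined

`NT_unique`: if `NT N χ i` and `NT N χ j` then `i = j` (Clifford: two constituents of `χ` over `N` are conjugate).
-/

set_option autoImplicit false

open Cfsg Subgroup
open Cfsg.Agent.H508.KB
open Cfsg.Agent.Lib.MinNormalNonabelian
open scoped ComplexConjugate

namespace Cfsg.Agent.H395.KBUniq

universe u

variable {G : Type u} [Group G] [Finite G] {N : Subgroup G} [N.Normal]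

/-- conjugation by `g` maps the components on which `θ'` is not trivial to those on which `θ` is not trivial -/
theorem card_le {θ θ' : IrrCharacter N} {g : G} (h : (θ' : N → ℂ) = (θ : N → ℂ) ∘ (MulAut.conjNormal g : MulAut N)) :
    Nat.card {V : minSet N // ∃ n : N, (n : G) ∈ V.1 ∧ (θ' : N → ℂ) n ≠ (θ' : N → ℂ) 1} ≤
      Nat.card {V : minSet N // ∃ n : N, (n : G) ∈ V.1 ∧ (θ : N → ℂ) n ≠ (θ : N → ℂ) 1} := by
  have hv : ∀ n : N, (θ' : N → ℂ) n = (θ : N → ℂ) (MulAut.conjNormal g n) := fun n => congrFun h n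
  refine Nat.card_le_card_of_injective
    (fun V => ⟨⟨V.1.1.map (MulAut.conj g).toMonoidHom, map_conj_mem_minSet V.1.2 g⟩, ?_⟩) ?_
  · obtain ⟨n, hn, hne⟩ := V.2
    refine ⟨MulAut.conjNormal g n, ⟨(n : G), hn, ?_⟩, ?_⟩
    · rw [MulAut.conjNormal_apply]
      rfl
    · rw [← hv n]
      have h1 := hv 1
      rw [map_one] at h1
      rw [← h1]
      exact hne
  · intro V W hVW
    have h1 : V.1.1.map (MulAut.conj g).toMonoidHom = W.1.1.map (MulAut.conj g).toMonoidHom :=
      congrArg (fun X => X.1.1) hVW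
    exact Subtype.ext (Subtype.ext (Subgroup.map_injective (MulAut.conj g).injective h1))

/-- The number of components on which a constituent of `χ` over `N` is not trivial depends only on `χ`. -/
theorem NT_unique (χ : IrrCharacter G) {i j : ℕ} (hi : NT N χ i) (hj : NT N χ j) : i = j := by
  classical
  have := Fintype.ofFinite G
  have := Fintype.ofFinite N
  obtain ⟨θ, hθ, rfl⟩ := hi
  obtain ⟨θ', hθ', rfl⟩ := hj
  have h1 := over_iff.1 hθ
  have h2 := over_iff.1 hθ'
  obtain ⟨g, hg⟩ := Characters.Clifford.exists_conj_of_constituents N χ.2 θ.2 θ'.2 h1 h2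
  obtain ⟨g', hg'⟩ := Characters.Clifford.exists_conj_of_constituents N χ.2 θ'.2 θ.2 h2 h1
  exact le_antisymm (card_le hg') (card_le hg)

end Cfsg.Agent.H395.KBUniq
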