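import Cfsg.Agent.H395.PFJ2

/-!
# The configuration in `A7`, `A8`, `L4(2)`, `L3(4)` (helper395, for `S3522`)
-/

set_option autoImplicit false
set_option maxRecDepth 100000

namespace Cfsg.Agent.H395.PF

open Subgroup Equiv Matrix

universe u

/-! ### alternating groups -/

theorem cfg_alt {n : ℕ} (a b w : Perm (Fin n)) (ha : a ∈ alternatingGroup (Fin n)) (hb : b ∈ alternatingGroup (Fin n))
    (hw : w ∈ alternatingGroup (Fin n)) (ha3 : a ^ 3 = 1) (ha1 : a ≠ 1) (h1 : b ≠ 1) (h2 : b ≠ a) (h3 : a * b ≠ 1)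
    (hab : a * b = b * a) (hwa : w * a = b * w) (hwb : a * (w * b) = w) : Cfg (alternatingGroup (Fin n)) := by
  have : Fact (Nat.Prime 3) := ⟨by norm_num⟩
  have hbe : (⟨w, hw⟩ : alternatingGroup (Fin n)) * ⟨a, ha⟩ * (⟨w, hw⟩)⁻¹ = ⟨b, hb⟩ := by
    apply Subtype.ext
    show w * a * w⁻¹ = b
    rw [hwa]; group
  have hoa : orderOf (⟨a, ha⟩ : alternatingGroup (Fin n)) = 3 :=
    orderOf_eq_prime (Subtype.ext ha3) fun h => ha1 (congrArg Subtype.val h)
  have hconj : IsConj (⟨a, ha⟩ : alternatingGroup (Fin n)) ⟨b, hb⟩ := isConj_iff.2 ⟨⟨w, hw⟩, hbe⟩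
  have hob : orderOf (⟨b, hb⟩ : alternatingGroup (Fin n)) = 3 := by
    rw [← hbe, ← MulAut.conj_apply, MulEquiv.orderOf_eq, hoa]
  refine ⟨⟨a, ha⟩, ⟨b, hb⟩, hoa, hob, Subtype.ext hab, ?_, hconj, ?_⟩
  · intro h
    rcases J2Type.ThreeF.mem_zpowers_three hoa h with h4 | h4 | h4
    · exact h1 (congrArg Subtype.val h4)
    · exact h2 (congrArg Subtype.val h4)
    · apply h3
      have h5 : b = a⁻¹ := congrArg Subtype.val h4
      rw [h5, mul_inv_cancel]
  · refine isConj_iff.2 ⟨⟨w, hw⟩, ?_⟩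
    apply Subtype.ext
    show w * (a * b) * w⁻¹ = a⁻¹ * b
    have h7 : w * b = a⁻¹ * w := eq_inv_mul_of_mul_eq hwb
    have h9 : Commute b a := hab.symm
    calc w * (a * b) * w⁻¹ = (w * a) * b * w⁻¹ := by group
      _ = b * (w * b) * w⁻¹ := by rw [hwa]; group
      _ = b * a⁻¹ := by rw [h7]; group
      _ = a⁻¹ * b := h9.inv_right.eq

theorem cfg_a7 : Cfg (alternatingGroup (Fin 7)) := by
  refine cfg_alt c[0, 1, 2] c[3, 4, 5] (c[0, 3] * c[1, 4, 2, 5]) ?_ ?_ ?_ ?_ ?_ ?_ ?_ ?_ ?_ ?_ ?_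
  · exact Perm.mem_alternatingGroup.2 (by decide +kernel)
  · exact Perm.mem_alternatingGroup.2 (by decide +kernel)
  · exact Perm.mem_alternatingGroup.2 (by decide +kernel)
  all_goals decide +kernel

theorem cfg_a8 : Cfg (alternatingGroup (Fin 8)) := by
  refine cfg_alt c[0, 1, 2] c[3, 4, 5] (c[0, 3] * c[1, 4, 2, 5]) ?_ ?_ ?_ ?_ ?_ ?_ ?_ ?_ ?_ ?_ ?_
  · exact Perm.mem_alternatingGroup.2 (by decide +kernel)
  · exact Perm.mem_alternatingGroup.2 (by decide +kernel)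
  · exact Perm.mem_alternatingGroup.2 (by decide +kernel)
  all_goals decide +kernel

/-! ### linear groups -/

theorem not_center_off {n : ℕ} {F : Type*} [Field F] {X : Matrix.SpecialLinearGroup (Fin n) F} {i j : Fin n}
    (hij : i ≠ j) (h : X.1 i j ≠ 0) : X ∉ Subgroup.center (Matrix.SpecialLinearGroup (Fin n) F) := by
  intro hX
  obtain ⟨r, -, hr⟩ := Matrix.SpecialLinearGroup.mem_center_iff.1 hX
  apply h
  rw [← hr, Matrix.scalar_apply, Matrix.diagonal_apply_ne _ hij]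

theorem not_center_diag {n : ℕ} {F : Type*} [Field F] {X : Matrix.SpecialLinearGroup (Fin n) F} {i j : Fin n}
    (h : X.1 i i ≠ X.1 j j) : X ∉ Subgroup.center (Matrix.SpecialLinearGroup (Fin n) F) := by
  intro hX
  obtain ⟨r, -, hr⟩ := Matrix.SpecialLinearGroup.mem_center_iff.1 hX
  apply h
  rw [← hr, Matrix.scalar_apply, Matrix.diagonal_apply_eq, Matrix.diagonal_apply_eq]

section three

variable {F : Type*} [Field F]

def MA (w : F) : Matrix (Fin 3) (Fin 3) F := !![1, 0, 0; 0, w, 0; 0, 0, w ^ 2]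
def MB (F : Type*) [Field F] : Matrix (Fin 3) (Fin 3) F := !![0, 0, 1; 1, 0, 0; 0, 1, 0]
def MW (w : F) : Matrix (Fin 3) (Fin 3) F := !![1, 1, 1; 1, w ^ 2, w; 1, w, w ^ 2]
def MC (w : F) : Matrix (Fin 3) (Fin 3) F := !![w ^ 2, 0, 0; 0, w ^ 2, 0; 0, 0, w ^ 2]

theorem det_MA {w : F} (hw : w ^ 2 + w + 1 = 0) : (MA w).det = 1 := by
  unfold MA
  rw [Matrix.det_fin_three]
  simp
  grind

theorem det_MB : (MB F).det = 1 := by
  unfold MB
  rw [Matrix.det_fin_three]
  simp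

theorem det_MW {w : F} (hw : w ^ 2 + w + 1 = 0) (h2 : (2 : F) = 0) : (MW w).det = 1 := by
  unfold MW
  rw [Matrix.det_fin_three]
  simp
  grind

theorem det_MC {w : F} (hw : w ^ 2 + w + 1 = 0) : (MC w).det = 1 := by
  unfold MC
  rw [Matrix.det_fin_three]
  simp
  grind

theorem MA_cube {w : F} (hw : w ^ 2 + w + 1 = 0) : MA w * MA w * MA w = 1 := by
  unfold MA
  ext i j
  fin_cases i <;> fin_cases j <;> simp [Matrix.mul_apply, Fin.sum_univ_three] <;> grind

theorem MWA {w : F} (hw : w ^ 2 + w + 1 = 0) : MW w * MA w = MB F * MW w := by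
  unfold MA MB MW
  ext i j
  fin_cases i <;> fin_cases j <;> simp [Matrix.mul_apply, Fin.sum_univ_three] <;> grind

theorem MWB {w : F} (hw : w ^ 2 + w + 1 = 0) : MA w * (MW w * MB F) = MW w := by
  unfold MA MB MW
  ext i j
  fin_cases i <;> fin_cases j <;> simp [Matrix.mul_apply, Fin.sum_univ_three] <;> grind

theorem MBA {w : F} (hw : w ^ 2 + w + 1 = 0) : MB F * MA w = MA w * MB F * MC w := by
  unfold MA MB MC
  ext i j
  fin_cases i <;> fin_cases j <;> simp [Matrix.mul_apply, Fin.sum_univ_three] <;> grind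

theorem cfg_psl34 (w : F) (hw : w ^ 2 + w + 1 = 0) (h2 : (2 : F) = 0) :
    Cfg (Matrix.ProjectiveSpecialLinearGroup (Fin 3) F) := by
  have hw1 : w ≠ 1 := by
    rintro rfl
    have h3 : (1 : F) = 0 := by linear_combination hw - h2
    exact one_ne_zero h3
  have hw0 : w ≠ 0 := by
    rintro rfl
    simp at hw
  let A : Matrix.SpecialLinearGroup (Fin 3) F := ⟨MA w, det_MA hw⟩
  let B : Matrix.SpecialLinearGroup (Fin 3) F := ⟨MB F, det_MB⟩
  let W : Matrix.SpecialLinearGroup (Fin 3) F := ⟨MW w, det_MW hw h2⟩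
  let C : Matrix.SpecialLinearGroup (Fin 3) F := ⟨MC w, det_MC hw⟩
  have hA3 : A * A * A = 1 := Subtype.ext (MA_cube hw)
  refine cfg_quot (Subgroup.center (Matrix.SpecialLinearGroup (Fin 3) F)) (A := A) (B := B) (W := W) hA3
    (Subtype.ext (MWA hw)) (Subtype.ext (MWB hw)) ?_ ?_ ?_ ?_
  · have h1 : (A * B)⁻¹ * (B * A) = C := by
      rw [inv_mul_eq_iff_eq_mul]
      exact Subtype.ext (MBA hw)
    rw [h1]
    refine Matrix.SpecialLinearGroup.mem_center_iff.2 ⟨w ^ 2, ?_, ?_⟩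
    · rw [Fintype.card_fin]; grind
    · ext i j
      fin_cases i <;> fin_cases j <;> simp [C, MC]
  · refine not_center_diag (i := 0) (j := 1) ?_
    show MA w 0 0 ≠ MA w 1 1
    simpa [MA] using hw1.symm
  · have h1 : A⁻¹ = A * A := by rw [inv_eq_iff_mul_eq_one, ← mul_assoc]; exact hA3
    rw [h1]
    refine not_center_off (i := 0) (j := 2) (by decide) ?_
    show (MA w * MA w * MB F) 0 2 ≠ 0
    simp [MA, MB, Matrix.mul_apply, Fin.sum_univ_three]
  · refine not_center_off (i := 0) (j := 2) (by decide) ?_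
    show (MA w * MB F) 0 2 ≠ 0
    simp [MA, MB, Matrix.mul_apply, Fin.sum_univ_three]

end three

section four

variable {F : Type*} [Field F]

def NA (F : Type*) [Field F] : Matrix (Fin 4) (Fin 4) F := !![0, 1, 0, 0; 1, 1, 0, 0; 0, 0, 1, 0; 0, 0, 0, 1]
def NB (F : Type*) [Field F] : Matrix (Fin 4) (Fin 4) F := !![1, 0, 0, 0; 0, 1, 0, 0; 0, 0, 0, 1; 0, 0, 1, 1]
def NW (F : Type*) [Field F] : Matrix (Fin 4) (Fin 4) F := !![0, 0, 0, 1; 0, 0, 1, 0; 1, 0, 0, 0; 0, 1, 0, 0]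

theorem det_NA (h2 : (2 : F) = 0) : (NA F).det = 1 := by
  unfold NA
  rw [Matrix.det_succ_row_zero]
  simp [Fin.sum_univ_succ, Matrix.det_fin_three, Fin.succAbove]
  grind

theorem det_NB (h2 : (2 : F) = 0) : (NB F).det = 1 := by
  unfold NB
  rw [Matrix.det_succ_row_zero]
  simp [Fin.sum_univ_succ, Matrix.det_fin_three, Fin.succAbove]
  grind

theorem det_NW (h2 : (2 : F) = 0) : (NW F).det = 1 := by
  unfold NW
  rw [Matrix.det_succ_row_zero]
  simp [Fin.sum_univ_succ, Matrix.det_fin_three, Fin.succAbove]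
  grind

theorem NA_cube (h2 : (2 : F) = 0) : NA F * NA F * NA F = 1 := by
  unfold NA
  ext i j
  fin_cases i <;> fin_cases j <;> simp [Matrix.mul_apply, Fin.sum_univ_four] <;> grind

theorem NWA : NW F * NA F = NB F * NW F := by
  unfold NA NB NW
  ext i j
  fin_cases i <;> fin_cases j <;> simp [Matrix.mul_apply, Fin.sum_univ_four]

theorem NWB (h2 : (2 : F) = 0) : NA F * (NW F * NB F) = NW F := by
  unfold NA NB NW
  ext i j
  fin_cases i <;> fin_cases j <;> simp [Matrix.mul_apply, Fin.sum_univ_four] <;> grind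

theorem NBA : NB F * NA F = NA F * NB F := by
  unfold NA NB
  ext i j
  fin_cases i <;> fin_cases j <;> simp [Matrix.mul_apply, Fin.sum_univ_four]

theorem cfg_psl42 (h2 : (2 : F) = 0) : Cfg (Matrix.ProjectiveSpecialLinearGroup (Fin 4) F) := by
  let A : Matrix.SpecialLinearGroup (Fin 4) F := ⟨NA F, det_NA h2⟩
  let B : Matrix.SpecialLinearGroup (Fin 4) F := ⟨NB F, det_NB h2⟩
  let W : Matrix.SpecialLinearGroup (Fin 4) F := ⟨NW F, det_NW h2⟩
  have hA3 : A * A * A = 1 := Subtype.ext (NA_cube h2)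
  refine cfg_quot (Subgroup.center (Matrix.SpecialLinearGroup (Fin 4) F)) (A := A) (B := B) (W := W) hA3
    (Subtype.ext NWA) (Subtype.ext (NWB h2)) ?_ ?_ ?_ ?_
  · have h1 : (A * B)⁻¹ * (B * A) = 1 := by
      rw [inv_mul_eq_iff_eq_mul, mul_one]
      exact Subtype.ext NBA
    rw [h1]
    exact one_mem _
  · refine not_center_off (i := 0) (j := 1) (by decide) ?_
    show NA F 0 1 ≠ 0
    simp [NA]
  · have h1 : A⁻¹ = A * A := by rw [inv_eq_iff_mul_eq_one, ← mul_assoc]; exact hA3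
    rw [h1]
    refine not_center_off (i := 2) (j := 3) (by decide) ?_
    show (NA F * NA F * NB F) 2 3 ≠ 0
    simp [NA, NB, Matrix.mul_apply, Fin.sum_univ_four]
  · refine not_center_off (i := 2) (j := 3) (by decide) ?_
    show (NA F * NB F) 2 3 ≠ 0
    simp [NA, NB, Matrix.mul_apply, Fin.sum_univ_four]

end four

end Cfsg.Agent.H395.PF
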