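import Mathlib
import Cfsg.Agent.H395.CyclicTI

/-!
A subgroup of a group with a TI Sylow `p`-subgroup `P` of order at least the index of a Sylow `p`-subgroup is
contained in a Sylow normaliser.
-/

set_option autoImplicit false

namespace Cfsg.Agent.H395.TISolv

open Finset

/-- In a group with TI Sylow `p`-subgroups the number of Sylow `p`-subgroups is `1` modulo `|P|`. -/
theorem card_sylow {Y : Type*} [Group Y] [Finite Y] (p : ℕ) [Fact p.Prime] (P : Sylow p Y)
    (hTI : ∀ Q : Sylow p Y, Q ≠ P → (P : Subgroup Y) ⊓ (Q : Subgroup Y) = ⊥) :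
    ∃ r : ℕ, Nat.card (Sylow p Y) = 1 + r * Nat.card (P : Subgroup Y) := by
  classical
  let _ : Fintype (P : Subgroup Y) := Fintype.ofFinite _
  let _ : Fintype (Sylow p Y) := Fintype.ofFinite _
  obtain ⟨R, hR⟩ := CyclicTI.sum_eq_of_free (P := (P : Subgroup Y)) (U := Sylow p Y) P (by
      rintro ⟨y, hy⟩
      show y • P = P
      rw [Sylow.smul_eq_iff_mem_normalizer]
      exact Subgroup.le_normalizer hy)
    (by
      rintro Q hQ ⟨y, hy⟩ h
      have h1 : y • Q = Q := h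
      rw [Sylow.smul_eq_iff_mem_normalizer] at h1
      apply Subtype.ext
      have h2 : IsPGroup p (Subgroup.zpowers y) := P.isPGroup'.to_le (by rw [Subgroup.zpowers_le]; exact hy)
      have h3 : IsPGroup p ((Q : Subgroup Y) ⊔ Subgroup.zpowers y : Subgroup Y) :=
        Q.isPGroup'.to_sup_of_normal_left' h2 (by rw [Subgroup.zpowers_le]; exact h1)
      have h4 := Q.is_maximal' h3 le_sup_left
      have h5 : y ∈ (Q : Subgroup Y) := by
        rw [← h4]
        exact Subgroup.mem_sup_right (Subgroup.mem_zpowers y)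
      have h6 : y ∈ ((P : Subgroup Y) ⊓ (Q : Subgroup Y) : Subgroup Y) := ⟨hy, h5⟩
      rw [hTI Q hQ] at h6
      exact h6) (fun _ => 1)
  refine ⟨R.card, ?_⟩
  simp only [sum_const, smul_eq_mul, mul_one, card_univ] at hR
  rw [Nat.card_eq_fintype_card, Nat.card_eq_fintype_card, hR]

theorem le_normalizer {X : Type*} [Group X] [Finite X] (p : ℕ) [Fact p.Prime]
    (hTI : ∀ P Q : Sylow p X, P ≠ Q → (P : Subgroup X) ⊓ (Q : Subgroup X) = ⊥) (Y : Subgroup X) (m q : ℕ)
    (hq : ∀ P : Sylow p X, Nat.card (P : Subgroup X) = q) (hY : Nat.card Y = q * m) (hm0 : m < q + 1)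
    (hm : 0 < m) (hpm : ¬ p ∣ m ) :
    ∃ P : Sylow p X, Y ≤ Subgroup.normalizer ((P : Subgroup X) : Set X) := by
  classical
  obtain ⟨P₁⟩ : Nonempty (Sylow p X) := inferInstance
  obtain ⟨n, hn⟩ : ∃ n, q = p ^ n := by
    have := IsPGroup.iff_card.mp P₁.isPGroup'
    rw [hq] at this
    exact this
  have hp : p.Prime := Fact.out
  -- Sylow subgroups of Y map to Sylow subgroups of X
  have hcard : ∀ Q : Sylow p Y, Nat.card (Q : Subgroup Y) = q := by
    intro Q
    rw [Q.card_eq_multiplicity, hY, hn]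
    congr 1
    rw [Nat.factorization_mul (pow_ne_zero _ hp.ne_zero) hm.ne', Finsupp.add_apply, hp.factorization_pow,
      Finsupp.single_eq_same, Nat.factorization_eq_zero_of_not_dvd hpm, add_zero]
  have hsyl : ∀ Q : Sylow p Y, ∃ P : Sylow p X, (P : Subgroup X) = (Q : Subgroup Y).map Y.subtype := by
    intro Q
    obtain ⟨P, hP⟩ := (Q.isPGroup'.map Y.subtype).exists_le_sylow
    refine ⟨P, ?_⟩
    symm
    apply Subgroup.eq_of_le_of_card_ge hP
    rw [hq P, Subgroup.card_map_of_injective Y.subtype_injective, hcard]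
  obtain ⟨Q⟩ : Nonempty (Sylow p Y) := inferInstance
  have hTIY : ∀ Q' : Sylow p Y, Q' ≠ Q → (Q : Subgroup Y) ⊓ (Q' : Subgroup Y) = ⊥ := by
    intro Q' hne
    obtain ⟨P, hP⟩ := hsyl Q
    obtain ⟨P', hP'⟩ := hsyl Q'
    have hPP : P ≠ P' := by
      intro h
      apply hne
      apply Sylow.ext
      apply Subgroup.map_injective Y.subtype_injective
      rw [← hP, ← hP', h]
    have h1 := hTI P P' hPP
    rw [eq_bot_iff]
    rintro y ⟨hy1, hy2⟩
    have h2 : (y : X) ∈ ((P : Subgroup X) ⊓ (P' : Subgroup X) : Subgroup X) := by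
      rw [hP, hP']
      exact ⟨⟨y, hy1, rfl⟩, ⟨y, hy2, rfl⟩⟩
    rw [h1, Subgroup.mem_bot] at h2
    rw [Subgroup.mem_bot]
    exact Subtype.ext h2
  obtain ⟨r, hr⟩ := card_sylow p Q hTIY
  have hdvd : Nat.card (Sylow p Y) ∣ m := by
    have h1 := Q.card_dvd_index
    have h2 := (Q : Subgroup Y).index_mul_card
    rw [hcard Q, hY, mul_comm] at h2
    have hq0 : 0 < q := by rw [hn]; exact pow_pos hp.pos _
    have h3 := Nat.eq_of_mul_eq_mul_left hq0 h2
    rw [← h3]; exact h1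
  rw [hcard Q] at hr
  have hle := Nat.le_of_dvd hm hdvd
  have hr0 : r = 0 := by
    by_contra h
    have h1 : 1 ≤ r := Nat.one_le_iff_ne_zero.mpr h
    have h2 : q ≤ r * q := Nat.le_mul_of_pos_left _ h1
    have h3 : Nat.card (Sylow p Y) ≤ q := hle.trans (by omega)
    omega
  rw [hr0] at hr
  have hsub : Subsingleton (Sylow p Y) := by
    rw [← Finite.card_le_one_iff_subsingleton]
    omega
  have hnorm : (Q : Subgroup Y).Normal := Sylow.normal_of_subsingleton Q
  obtain ⟨P, hP⟩ := hsyl Q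
  refine ⟨P, ?_⟩
  intro y hy
  rw [Subgroup.mem_normalizer_iff]
  intro g
  rw [hP]
  constructor
  · rintro ⟨g', hg', rfl⟩
    exact ⟨⟨y, hy⟩ * g' * ⟨y, hy⟩⁻¹, hnorm.conj_mem g' hg' ⟨y, hy⟩, rfl⟩
  · rintro ⟨g', hg', hg⟩
    refine ⟨⟨y, hy⟩⁻¹ * g' * ⟨y, hy⟩, ?_, ?_⟩
    · have := hnorm.conj_mem g' hg' ⟨y, hy⟩⁻¹
      rwa [inv_inv] at this
    · have h1 : (g' : X) = y * g * y⁻¹ := hg
      show y⁻¹ * (g' : X) * y = g
      rw [h1]; group

end Cfsg.Agent.H395.TISolv
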