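import Cfsg.Agent.AschCrit.PSUTorus
import Cfsg.Agent.HKS.EndOrd
import Cfsg.Agent.H395.TISolv

/-!
Subgroups of order 960 of `PSU₃(4)` are solvable.
-/

set_option autoImplicit false

namespace Cfsg.Agent.H395.PSU34

open MulAction Cfsg.Agent.LieRecognition.HermHeis

section RankOne

variable {X Ω : Type*} [Group X] [MulAction X Ω] {a : Ω} {t : X} {Q : Subgroup X}

/-- an element of a conjugate of `Q` fixing a second point is trivial -/
theorem eq_one_of_fix (h : Cfsg.IsRankOneSetup X Ω a t Q) {u x : X} {b : Ω} (hx : u⁻¹ * x * u ∈ Q)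
    (hb : x • b = b) (hne : b ≠ u • a) : x = 1 := by
  have h2 : ∀ {a b c d : Ω}, a ≠ b → c ≠ d → ∃ g : X, g • a = c ∧ g • b = d :=
    MulAction.is_two_pretransitive_iff.mp h.two_transitive
  have hta : t • a ≠ a := fun e => h.not_mem (mem_stabilizer_iff.2 e)
  obtain ⟨g, hg1, hg2⟩ := h2 hne.symm hta.symm
  have hgu : g * u ∈ stabilizer X a := by
    rw [mem_stabilizer_iff, mul_smul, hg1]
  have h3 : g * x * g⁻¹ ∈ Q := by
    have h4 := h.conj_mem _ hgu _ hx
    have h5 : g * u * (u⁻¹ * x * u) * (g * u)⁻¹ = g * x * g⁻¹ := by group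
    rwa [h5] at h4
  have h6 : g * x * g⁻¹ ∈ stabilizer X (t • a) := by
    rw [mem_stabilizer_iff, mul_smul, mul_smul, ← hg2, inv_smul_smul, hb]
  have h7 : g * x * g⁻¹ ∈ Q ⊓ stabilizer X (t • a) := ⟨h3, h6⟩
  rw [h.inf_eq_bot, Subgroup.mem_bot] at h7
  have h8 : x = g⁻¹ * (g * x * g⁻¹) * g := by group
  rw [h8, h7]; group

theorem normalizer_le (h : Cfsg.IsRankOneSetup X Ω a t Q) (hQ : Q ≠ ⊥) :
    Subgroup.normalizer (Q : Set X) ≤ stabilizer X a := by
  intro g hg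
  by_contra hga
  apply hQ
  rw [eq_bot_iff]
  intro x hx
  rw [Subgroup.mem_bot]
  have h1 : g⁻¹ * x * g ∈ Q := by
    have := (Subgroup.mem_normalizer_iff.mp hg (g⁻¹ * x * g)).mpr (by
      have : g * (g⁻¹ * x * g) * g⁻¹ = x := by group
      rwa [this])
    exact this
  refine eq_one_of_fix h (u := g) (b := a) h1 (mem_stabilizer_iff.1 (h.le hx)) ?_
  intro e
  exact hga (mem_stabilizer_iff.2 e.symm)

theorem inf_eq_bot (h : Cfsg.IsRankOneSetup X Ω a t Q) [Finite X] (p : ℕ) [Fact p.Prime] (P₀ : Sylow p X)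
    (hP₀ : (P₀ : Subgroup X) = Q) (P P' : Sylow p X) (hne : P ≠ P') : (P : Subgroup X) ⊓ (P' : Subgroup X) = ⊥ := by
  obtain ⟨u, hu⟩ := MulAction.exists_smul_eq X P₀ P
  obtain ⟨v, hv⟩ := MulAction.exists_smul_eq X P₀ P'
  have hmem : ∀ (w : X) (x : X), x ∈ ((w • P₀ : Sylow p X) : Subgroup X) ↔ w⁻¹ * x * w ∈ Q := by
    intro w x
    rw [Sylow.coe_subgroup_smul, Subgroup.mem_pointwise_smul_iff_inv_smul_mem, ← map_inv,
      MulAut.smul_def, MulAut.conj_apply, inv_inv, hP₀]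
  rw [eq_bot_iff]
  rintro x ⟨hx1, hx2⟩
  rw [Subgroup.mem_bot]
  have hx1 := (hmem u x).mp (by rw [hu]; exact hx1)
  have hx2 := (hmem v x).mp (by rw [hv]; exact hx2)
  refine eq_one_of_fix h (u := u) (b := v • a) hx1 ?_ ?_
  · have h1 := mem_stabilizer_iff.1 (h.le hx2)
    rw [mul_smul, mul_smul, inv_smul_eq_iff] at h1
    exact h1
  · intro e
    apply hne
    rw [← hu, ← hv]
    have h1 : v⁻¹ * u ∈ stabilizer X a := by
      rw [mem_stabilizer_iff, mul_smul, ← e, inv_smul_smul]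
    have h2 : v⁻¹ * u ∈ Subgroup.normalizer ((P₀ : Subgroup X) : Set X) := by
      rw [Subgroup.mem_normalizer_iff]
      intro y
      rw [hP₀]
      constructor
      · exact fun hy => h.conj_mem _ h1 _ hy
      · intro hy
        have h3 := h.conj_mem _ (inv_mem h1) _ hy
        have h4 : (v⁻¹ * u)⁻¹ * (v⁻¹ * u * y * (v⁻¹ * u)⁻¹) * (v⁻¹ * u)⁻¹⁻¹ = y := by group
        rwa [h4] at h3
    have h3 := Sylow.smul_eq_iff_mem_normalizer.mpr h2
    have h4 : u = v * (v⁻¹ * u) := by group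
    rw [h4, mul_smul, h3]

theorem isSolvable_stabilizer (h : Cfsg.IsRankOneSetup X Ω a t Q) [Group.IsSolvable Q]
    (hD : Group.IsSolvable ↥(stabilizer X a ⊓ stabilizer X (t • a))) : Group.IsSolvable (stabilizer X a) := by
  have hn : (Q.subgroupOf (stabilizer X a)).Normal :=
    ⟨fun n hn g => h.conj_mem _ g.2 _ hn⟩
  let f : ↥(stabilizer X a ⊓ stabilizer X (t • a)) →* stabilizer X a ⧸ Q.subgroupOf (stabilizer X a) :=
    (QuotientGroup.mk' _).comp (Subgroup.inclusion inf_le_left)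
  have hf : Function.Surjective f := by
    intro y
    obtain ⟨⟨y, hy⟩, rfl⟩ := QuotientGroup.mk'_surjective _ y
    have hy' := hy
    rw [← h.sup_eq] at hy'
    have hnorm : ∀ d ∈ (stabilizer X a ⊓ stabilizer X (t • a) : Subgroup X), ∀ x ∈ Q, d * x * d⁻¹ ∈ Q :=
      fun d hd x hx => h.conj_mem d hd.1 x hx
    have h1 : ∃ x ∈ Q, ∃ d ∈ (stabilizer X a ⊓ stabilizer X (t • a) : Subgroup X), x * d = y := by
      have h2 : (Q ⊔ (stabilizer X a ⊓ stabilizer X (t • a)) : Subgroup X) ≤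
          { carrier := {y | ∃ x ∈ Q, ∃ d ∈ (stabilizer X a ⊓ stabilizer X (t • a) : Subgroup X), x * d = y}
            one_mem' := ⟨1, Q.one_mem, 1, Subgroup.one_mem _, one_mul 1⟩
            mul_mem' := by
              rintro _ _ ⟨x, hx, d, hd, rfl⟩ ⟨x', hx', d', hd', rfl⟩
              refine ⟨x * (d * x' * d⁻¹), Q.mul_mem hx (hnorm d hd x' hx'), d * d', Subgroup.mul_mem _ hd hd', ?_⟩
              group
            inv_mem' := by
              rintro _ ⟨x, hx, d, hd, rfl⟩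
              refine ⟨d⁻¹ * x⁻¹ * d⁻¹⁻¹, hnorm _ (Subgroup.inv_mem _ hd) _ (Q.inv_mem hx), d⁻¹, Subgroup.inv_mem _ hd, ?_⟩
              group } := by
        rw [sup_le_iff]
        constructor
        · intro x hx
          exact ⟨x, hx, 1, Subgroup.one_mem _, mul_one x⟩
        · intro d hd
          exact ⟨1, Q.one_mem, d, hd, one_mul d⟩
      exact h2 hy'
    obtain ⟨x, hx, d, hd, hxd⟩ := h1
    refine ⟨⟨d, hd⟩, ?_⟩
    show QuotientGroup.mk' _ _ = QuotientGroup.mk' _ _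
    rw [QuotientGroup.mk'_eq_mk']
    refine ⟨⟨d⁻¹ * x * d, ?_⟩, ?_, ?_⟩
    · have h3 := h.conj_mem d⁻¹ (inv_mem hd.1) x hx
      rw [inv_inv] at h3
      exact h.le h3
    · rw [Subgroup.mem_subgroupOf]
      have h3 := h.conj_mem d⁻¹ (inv_mem hd.1) x hx
      rwa [inv_inv] at h3
    · apply Subtype.ext
      show d * (d⁻¹ * x * d) = y
      rw [← hxd]; group
  have h1 : Group.IsSolvable (stabilizer X a ⧸ Q.subgroupOf (stabilizer X a)) := Group.isSolvable_of_surjective hf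
  have h2 : Group.IsSolvable (Q.subgroupOf (stabilizer X a)) :=
    Group.isSolvable_of_isSolvable_injective (f := (Subgroup.subgroupOfEquivOfLe h.le).toMonoidHom)
      (MulEquiv.injective _)
  exact Group.isSolvable_of_ker_le_range (Q.subgroupOf (stabilizer X a)).subtype
    (QuotientGroup.mk' (Q.subgroupOf (stabilizer X a))) (by rw [QuotientGroup.ker_mk', Subgroup.range_subtype])

end RankOne

theorem main {F : Type} [Field F] [Fintype F] (hF : Fintype.card F = 16) {q : ℕ} (hq : q = 4)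
    (Y : Subgroup (Cfsg.PSU 3 F q)) (hY : Nat.card Y = 960) : Group.IsSolvable Y := by
  obtain rfl : q = 2 ^ 2 := by rw [hq]; norm_num
  have hchar : CharP F 2 :=
    charP_of_card_eq_prime_pow (R := F) (p := 2) (f := 4) (by rw [hF]; norm_num)
  have hpr : Fact (Nat.Prime 2) := ⟨Nat.prime_two⟩
  let σ : F →+* F := iterateFrobenius F 2 2
  have hs : ∀ x, σ x = x ^ (2 ^ 2) := fun x => iterateFrobenius_def 2 2 x
  have hσ : Fact (∀ x, σ (σ x) = x) := ⟨by
    intro x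
    rw [hs, hs, ← pow_mul]
    have := FiniteField.pow_card x
    rwa [hF] at this⟩
  have hF' : Nat.card F = (2 ^ 2) ^ 2 := by rw [Nat.card_eq_fintype_card, hF]; norm_num
  obtain ⟨H, S, w, ψ, -, hR, -, -, -, -, C, hC, hCD⟩ := AschCrit.PSUTorus.exists_model (F := F) (σ := σ) (n := 2)
    (by norm_num) hs hF'
  have hcardX : Nat.card (Cfsg.PSU 3 F (2 ^ 2)) = 62400 := by
    have h1 := HKS.EndOrd.card_psu_three (F := F) (t := 3) (by rw [hF]; norm_num)
    norm_num at h1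
    exact h1
  have hfin : Finite (Cfsg.PSU 3 F (2 ^ 2)) := Nat.finite_of_card_ne_zero (by rw [hcardX]; norm_num)
  have hcardS : Nat.card S = 2 ^ 6 := by
    rw [← Nat.card_congr ψ.toEquiv, card_heis (F := F) (q := 2 ^ 2) (by norm_num) hs hF']
    norm_num
  have hstab : stabilizer (Cfsg.PSU 3 F (2 ^ 2)) (QuotientGroup.mk 1 : Cfsg.PSU 3 F (2 ^ 2) ⧸ H) = H := by
    ext g
    rw [mem_stabilizer_iff]
    show ((g * 1 : Cfsg.PSU 3 F (2 ^ 2)) : Cfsg.PSU 3 F (2 ^ 2) ⧸ H) = _ ↔ _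
    rw [mul_one, QuotientGroup.eq, mul_one, inv_mem_iff]
  have hSp : IsPGroup 2 S := IsPGroup.of_card hcardS
  obtain ⟨P₀, hP₀⟩ := hSp.exists_le_sylow
  have hcardP : ∀ P : Sylow 2 (Cfsg.PSU 3 F (2 ^ 2)), Nat.card (P : Subgroup (Cfsg.PSU 3 F (2 ^ 2))) = 64 := by
    intro P
    rw [P.card_eq_multiplicity, hcardX]
    have : (62400 : ℕ).factorization 2 = 6 := by
      rw [show (62400 : ℕ) = 2 ^ 6 * 975 by norm_num, Nat.factorization_mul (by norm_num) (by norm_num),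
        Finsupp.add_apply, Nat.prime_two.factorization_pow, Finsupp.single_eq_same,
        Nat.factorization_eq_zero_of_not_dvd (by norm_num)]
    rw [this]; norm_num
  have hPS : (P₀ : Subgroup (Cfsg.PSU 3 F (2 ^ 2))) = S := by
    symm
    apply Subgroup.eq_of_le_of_card_ge hP₀
    rw [hcardP P₀, hcardS]
    norm_num
  obtain ⟨P, hP⟩ := TISolv.le_normalizer 2 (fun P P' hne => inf_eq_bot hR 2 P₀ hPS P P' hne) Y 15 64 hcardP
    (by rw [hY]) (by norm_num) (by norm_num) (by norm_num)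
  have hSsol : Group.IsSolvable S := by
    have := hSp.isNilpotent
    infer_instance
  have hSbot : S ≠ ⊥ := by
    rw [← hPS]
    intro h
    have h2 := hcardP P₀
    rw [h, Subgroup.card_bot] at h2
    norm_num at h2
  have hnorm := normalizer_le hR hSbot
  have hDsol : Group.IsSolvable ↥(stabilizer (Cfsg.PSU 3 F (2 ^ 2)) (QuotientGroup.mk 1 : Cfsg.PSU 3 F (2 ^ 2) ⧸ H) ⊓
      stabilizer (Cfsg.PSU 3 F (2 ^ 2)) (w • (QuotientGroup.mk 1 : Cfsg.PSU 3 F (2 ^ 2) ⧸ H))) := by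
    have hle : (stabilizer (Cfsg.PSU 3 F (2 ^ 2)) (QuotientGroup.mk 1 : Cfsg.PSU 3 F (2 ^ 2) ⧸ H) ⊓
      stabilizer (Cfsg.PSU 3 F (2 ^ 2)) (w • (QuotientGroup.mk 1 : Cfsg.PSU 3 F (2 ^ 2) ⧸ H))) ≤ C := by
      rintro y ⟨hy1, hy2⟩
      rw [hstab] at hy1
      refine hCD y hy1 ?_
      have hy3 : y • w • (QuotientGroup.mk 1 : Cfsg.PSU 3 F (2 ^ 2) ⧸ H) = w • (QuotientGroup.mk 1) := hy2
      have hy4 : w⁻¹ * y * w ∈ stabilizer (Cfsg.PSU 3 F (2 ^ 2)) (QuotientGroup.mk 1 : Cfsg.PSU 3 F (2 ^ 2) ⧸ H) := by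
        rw [mem_stabilizer_iff, mul_smul, mul_smul, hy3, inv_smul_smul]
      rwa [hstab] at hy4
    have hCc : Group.IsSolvable C := by
      have : IsMulCommutative C := inferInstance
      infer_instance
    exact Group.isSolvable_of_isSolvable_injective (f := Subgroup.inclusion hle) (Subgroup.inclusion_injective hle)
  have hstsol := isSolvable_stabilizer hR hDsol
  obtain ⟨g, hg⟩ := MulAction.exists_smul_eq (Cfsg.PSU 3 F (2 ^ 2)) P₀ P
  have hconj : ∀ y ∈ Y, g⁻¹ * y * g ∈ stabilizer (Cfsg.PSU 3 F (2 ^ 2)) (QuotientGroup.mk 1 : Cfsg.PSU 3 F (2 ^ 2) ⧸ H) := by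
    intro y hy
    apply hnorm
    rw [← hPS]
    apply Sylow.smul_eq_iff_mem_normalizer.mp
    rw [mul_smul, mul_smul, hg, Sylow.smul_eq_iff_mem_normalizer.mpr (hP hy), ← hg, inv_smul_smul]
  let f : Y →* stabilizer (Cfsg.PSU 3 F (2 ^ 2)) (QuotientGroup.mk 1 : Cfsg.PSU 3 F (2 ^ 2) ⧸ H) :=
    MonoidHom.mk' (fun y => ⟨g⁻¹ * y * g, hconj y y.2⟩) (by
      intro x y
      apply Subtype.ext
      show g⁻¹ * (x * y : Cfsg.PSU 3 F (2 ^ 2)) * g = g⁻¹ * x * g * (g⁻¹ * y * g)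
      group)
  refine Group.isSolvable_of_isSolvable_injective (f := f) ?_
  intro x y hxy
  have h1 : g⁻¹ * (x : Cfsg.PSU 3 F (2 ^ 2)) * g = g⁻¹ * y * g := congrArg Subtype.val hxy
  exact Subtype.ext (mul_left_cancel (mul_right_cancel h1))

end Cfsg.Agent.H395.PSU34
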