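import Cfsg.Agent.H395.SixSolv
import Cfsg.Agent.SporadicStructure.M24El
import Cfsg.Prelude.Def_Spor_Mathieu

/-!
# The group `M₂₂`
-/

set_option autoImplicit false

namespace Cfsg.Agent.H395.Six.MTwoTwo

open Cfsg Cfsg.Agent.SporadicA.GolayBase Cfsg.Agent.SporadicA.GolayPerm Cfsg.Agent.SporadicStructure.M24El

/-- the packed permutation fixes the two points -/
def fx (P : ℕ) : Bool := ok P && (Nat.beq (papp P 23) 23 && Nat.beq (papp P 0) 0)

theorem ok_of_fx {P : ℕ} (h : fx P = true) : ok P = true := by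
  unfold fx at h
  rw [Bool.and_eq_true] at h
  exact h.1

theorem mem_M22 {P : ℕ} (h : fx P = true) : (el P : Equiv.Perm GolayPt) ∈ Spor.M22 := by
  unfold fx at h
  rw [Bool.and_eq_true, Bool.and_eq_true] at h
  refine ⟨⟨(el P).2, ?_⟩, ?_⟩
  · show (el P : Equiv.Perm GolayPt) none = none
    have h1 := el_smul_pt h.1 none
    rw [show idx none = 23 from rfl, Nat.eq_of_beq_eq_true h.2.1] at h1
    exact h1
  · show (el P : Equiv.Perm GolayPt) (some 0) = some 0
    have h1 := el_smul_pt h.1 (some 0)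
    rw [show idx (some 0) = 0 from rfl, Nat.eq_of_beq_eq_true h.2.2] at h1
    exact h1

def Pz : ℕ := 984800476376245823918946237680985664
def Py : ℕ := 977671294313158843874349096882245248
def Pw : ℕ := 984806823288735101514964346924480608

theorem fz : fx Pz = true := by decide +kernel
theorem fy : fx Py = true := by decide +kernel
theorem fw : fx Pw = true := by decide +kernel

theorem zz : el Pz * el Pz = 1 := by
  rw [← el_pcomp (ok_of_fx fz) (ok_of_fx fz), show pcomp Pz Pz = idP by decide +kernel, el_idP]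

theorem ww : el Pw * el Pw = 1 := by
  rw [← el_pcomp (ok_of_fx fw) (ok_of_fx fw), show pcomp Pw Pw = idP by decide +kernel, el_idP]

theorem yyy : el Py * el Py * el Py = 1 := by
  rw [← el_pcomp (ok_of_fx fy) (ok_of_fx fy), ← el_pcomp (ok_pcomp (ok_of_fx fy) (ok_of_fx fy)) (ok_of_fx fy),
    show pcomp (pcomp Py Py) Py = idP by decide +kernel, el_idP]

theorem yz : el Py * el Pz = el Pz * el Py := by
  rw [← el_pcomp (ok_of_fx fy) (ok_of_fx fz), ← el_pcomp (ok_of_fx fz) (ok_of_fx fy),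
    show pcomp Py Pz = pcomp Pz Py by decide +kernel]

theorem wz : el Pw * el Pz = el Pz * el Pw := by
  rw [← el_pcomp (ok_of_fx fw) (ok_of_fx fz), ← el_pcomp (ok_of_fx fz) (ok_of_fx fw),
    show pcomp Pw Pz = pcomp Pz Pw by decide +kernel]

theorem wy : el Pw * el Py = el Py * el Pw := by
  rw [← el_pcomp (ok_of_fx fw) (ok_of_fx fy), ← el_pcomp (ok_of_fx fy) (ok_of_fx fw),
    show pcomp Pw Py = pcomp Py Pw by decide +kernel]

theorem el_ne {P Q : ℕ} (hP : ok P = true) (hQ : ok Q = true) {i : ℕ} (hi : i < 24) (h : papp P i ≠ papp Q i) :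
    el P ≠ el Q := by
  intro h1
  have h2 := idx_el_smul hP (pt i)
  rw [h1, idx_el_smul hQ (pt i), idx_pt hi] at h2
  exact h h2.symm

theorem z1 : el Pz ≠ 1 := by
  rw [← el_idP]
  exact el_ne (ok_of_fx fz) ok_idP (i := 1) (by norm_num) (by decide +kernel)

theorem y1 : el Py ≠ 1 := by
  rw [← el_idP]
  exact el_ne (ok_of_fx fy) ok_idP (i := 1) (by norm_num) (by decide +kernel)

theorem w1 : el Pw ≠ 1 := by
  rw [← el_idP]
  exact el_ne (ok_of_fx fw) ok_idP (i := 1) (by norm_num) (by decide +kernel)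

theorem wz1 : el Pw ≠ el Pz :=
  el_ne (ok_of_fx fw) (ok_of_fx fz) (i := 1) (by norm_num) (by decide +kernel)

theorem m22 (S : SHyp Spor.M22) : False := by
  have e1 : ((el Pz : M24) : Equiv.Perm GolayPt) * (el Pz : M24) = 1 := congrArg Subtype.val zz
  have e2 : ((el Py : M24) : Equiv.Perm GolayPt) * (el Py : M24) * (el Py : M24) = 1 := congrArg Subtype.val yyy
  have e3 : ((el Py : M24) : Equiv.Perm GolayPt) * (el Pz : M24) = (el Pz : M24) * (el Py : M24) :=
    congrArg Subtype.val yz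
  have e4 : ((el Pw : M24) : Equiv.Perm GolayPt) * (el Pz : M24) = (el Pz : M24) * (el Pw : M24) :=
    congrArg Subtype.val wz
  have e5 : ((el Pw : M24) : Equiv.Perm GolayPt) * (el Py : M24) = (el Py : M24) * (el Pw : M24) :=
    congrArg Subtype.val wy
  have e6 : ((el Pw : M24) : Equiv.Perm GolayPt) * (el Pw : M24) = 1 := congrArg Subtype.val ww
  have n1 : ((el Pz : M24) : Equiv.Perm GolayPt) ≠ 1 := fun h => z1 (Subtype.ext h)
  have n2 : ((el Py : M24) : Equiv.Perm GolayPt) ≠ 1 := fun h => y1 (Subtype.ext h)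
  have n3 : ((el Pw : M24) : Equiv.Perm GolayPt) ≠ 1 := fun h => w1 (Subtype.ext h)
  have n4 : ((el Pw : M24) : Equiv.Perm GolayPt) ≠ (el Pz : M24) := fun h => wz1 (Subtype.ext h)
  have mz : ((el Pz : M24) : Equiv.Perm GolayPt) ∈ Spor.M22 := mem_M22 fz
  have my : ((el Py : M24) : Equiv.Perm GolayPt) ∈ Spor.M22 := mem_M22 fy
  have mw : ((el Pw : M24) : Equiv.Perm GolayPt) ∈ Spor.M22 := mem_M22 fw
  generalize ((el Pz : M24) : Equiv.Perm GolayPt) = z at *
  generalize ((el Py : M24) : Equiv.Perm GolayPt) = y at *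
  generalize ((el Pw : M24) : Equiv.Perm GolayPt) = w at *
  have key := S.invol_eq (i := ⟨z, mz⟩) (y := ⟨y, my⟩) (w := ⟨w, mw⟩)
    (Subtype.ext e1) (fun h => n1 (congrArg Subtype.val h))
    (by
      rw [pow_succ, pow_two]
      exact Subtype.ext e2) (fun h => n2 (congrArg Subtype.val h))
    (Subtype.ext e3) (Subtype.ext e4)
    (Subtype.ext e5) (Subtype.ext e6)
    (fun h => n3 (congrArg Subtype.val h))
  exact n4 (congrArg Subtype.val key)

end Cfsg.Agent.H395.Six.MTwoTwo
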