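import Cfsg.Agent.H384.TwoTransRed
import Cfsg.Agent.H395.PSU34
import Cfsg.Agent.OddHalf.Orders.PSL
import Cfsg.Agent.OddHalf.Orders.PSpFi23
import Cfsg.Agent.ClassicalGeometry.AutPSL.SylowU
import Cfsg.Agent.ClassicalGeometry.PSL2Solvable
import Cfsg.Agent.ClassicalGeometry.PSL2ElemOrder
import Cfsg.Agent.S1163
import Cfsg.Agent.LieRecognition.ReeFinal
import Cfsg.Agent.H517.Alt
import Cfsg.Agent.HKS.EndOrd

/-!
2-transitive almost simple groups whose two-point stabilizer is `A₅`.
-/

set_option autoImplicit false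

namespace Cfsg.Agent.H395.TwoPtA5

open MulAction Cfsg.Agent.H384.TwoTrans

universe u v

/-- the orders of the sporadic groups of the list -/
structure Ords (T : Type u) [Group T] : Prop where
  m11 : Cfsg.Spor.IsoM11 T → Nat.card T = 7920
  m12 : Cfsg.Spor.IsoM12 T → Nat.card T = 95040
  m22 : Cfsg.Spor.IsoM22 T → Nat.card T = 443520
  m23 : Cfsg.Spor.IsoM23 T → Nat.card T = 10200960
  m24 : Cfsg.Spor.IsoM24 T → Nat.card T = 244823040
  hs : Cfsg.Spor.IsoHS T → Nat.card T = 44352000
  co3 : Cfsg.Spor.IsoCo3 T → Nat.card T = 495766656000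

variable {G : Type u} {Ω : Type v} [Group G] [MulAction G Ω] {T : Subgroup G}

theorem card_a5 : Nat.card ↥(alternatingGroup (Fin 5)) = 60 := by
  have h := two_mul_nat_card_alternatingGroup (α := Fin 5)
  rw [Nat.card_perm, Nat.card_fin] at h
  have : Nat.factorial 5 = 120 := rfl
  omega

/-- The numerical consequences. -/
theorem data (A : AS G Ω T) (a b : Ω) (hab : a ≠ b)
    (e : ↥(stabilizer G a ⊓ stabilizer G b) ≃* ↥(alternatingGroup (Fin 5))) :
    Nat.card G = Nat.card Ω * ((Nat.card Ω - 1) * 60) ∧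
    ∃ k c : ℕ, Nat.card T = Nat.card Ω * (k * c) ∧ k ∣ Nat.card Ω - 1 ∧ (c = 1 ∨ c = 60) ∧ (k = 1 → c = 1) ∧
      Nat.card (stabilizer T a) = k * c ∧ (c = 60 → ¬ Group.IsSolvable (stabilizer T a)) := by
  classical
  have hfG := A.finG
  have hfΩ := A.finΩ
  have hfT := A.finT
  have hG : Nat.card G = Nat.card Ω * ((Nat.card Ω - 1) * 60) := by
    have h1 : Nat.card Ω * Nat.card (stabilizer G a) = Nat.card G := by
      have := A.isPreprimitive
      have htr : IsPretransitive G Ω := this.toIsPretransitive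
      rw [← MulAction.index_stabilizer_of_transitive (G := G) (x := a)]
      exact (stabilizer G a).index_mul_card
    have h2 : (Nat.card Ω - 1) * Nat.card ↥(stabilizer G a ⊓ stabilizer G b) = Nat.card (stabilizer G a) := by
      have h3 : Nat.card (orbit (stabilizer G a) b) = Nat.card Ω - 1 := by
        have h4 : orbit (stabilizer G a) b = {a}ᶜ := by
          ext x
          rw [Set.mem_compl_iff, Set.mem_singleton_iff]
          constructor
          · rintro ⟨g, rfl⟩ h
            have h5 : g • a = a := g.2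
            exact hab (smul_left_cancel g (h5.trans h.symm))
          · intro hx
            obtain ⟨g, hg1, hg2⟩ := A.two' a b a x hab (Ne.symm hx)
            exact ⟨⟨g, hg1⟩, hg2⟩
        rw [h4, Nat.card_coe_set_eq, Set.ncard_compl, Set.ncard_singleton]
      have h4 := PermutationGroups.TwoTransitiveNormal.card_eq_index_mul (stabilizer G a) b
      rw [← h3, ← h4, MulAction.index_stabilizer, Nat.card_coe_set_eq]
    have h3 : Nat.card ↥(stabilizer G a ⊓ stabilizer G b) = 60 := by
      rw [Nat.card_congr e.toEquiv, card_a5]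
    rw [← h1, ← h2, h3]
  have hTn := A.normal
  have hsimp : IsSimpleGroup (alternatingGroup (Fin 5)) := alternatingGroup.isSimpleGroup_five
  have hsimp' : IsSimpleGroup ↥(stabilizer G a ⊓ stabilizer G b) := by
    have : Nontrivial ↥(stabilizer G a ⊓ stabilizer G b) := e.toEquiv.nontrivial
    exact e.isSimpleGroup
  let M : Subgroup ↥(stabilizer G a ⊓ stabilizer G b) := T.subgroupOf (stabilizer G a ⊓ stabilizer G b)
  have hM : M = ⊥ ∨ M = ⊤ := hsimp'.eq_bot_or_eq_top_of_normal M inferInstance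
  let φ : M ≃* ↥(stabilizer T a ⊓ stabilizer T b) :=
    { toFun := fun g => ⟨⟨g.1.1, g.2⟩, g.1.2.1, g.1.2.2⟩
      invFun := fun g => ⟨⟨g.1.1, g.2.1, g.2.2⟩, g.1.2⟩
      left_inv := fun _ => rfl
      right_inv := fun _ => rfl
      map_mul' := fun _ _ => rfl }
  have hGab : Nat.card ↥(stabilizer G a ⊓ stabilizer G b) = 60 := by
    rw [Nat.card_congr e.toEquiv, card_a5]
  have hc : (M = ⊥ ∧ Nat.card ↥(stabilizer T a ⊓ stabilizer T b) = 1) ∨
      (M = ⊤ ∧ Nat.card ↥(stabilizer T a ⊓ stabilizer T b) = 60) := by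
    rcases hM with h | h
    · left
      refine ⟨h, ?_⟩
      rw [← Nat.card_congr φ.toEquiv, h, Subgroup.card_bot]
    · right
      refine ⟨h, ?_⟩
      rw [← Nat.card_congr φ.toEquiv, h, Subgroup.card_top, hGab]
  refine ⟨hG, Nat.card (orbit (stabilizer T a) b), Nat.card ↥(stabilizer T a ⊓ stabilizer T b), ?_, A.card_orbit_dvd hab,
    ?_, ?_, (A.card_orbit_mul a b).symm, ?_⟩
  · rw [A.card_orbit_mul, A.card_mul]
  · rcases hc with h | h
    · exact Or.inl h.2
    · exact Or.inr h.2
  · intro h1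
    have h2 : ∀ x : Ω, ∀ g ∈ stabilizer T a, g • x = x := by
      intro x g hg
      by_cases hx : a = x
      · rw [← hx]; exact hg
      · have h3 := A.card_orbit_eq (a := a) (b := x) (c := a) (d := b) hx hab
        rw [h1] at h3
        have h4 : Subsingleton (orbit (stabilizer T a) x) := (Finite.card_le_one_iff_subsingleton).mp h3.le
        have h5 := Subsingleton.elim (α := orbit (stabilizer T a) x) ⟨(⟨g, hg⟩ : stabilizer T a) • x, mem_orbit _ _⟩
          ⟨x, mem_orbit_self x⟩
        exact congrArg Subtype.val h5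
    have h3 : stabilizer T a ⊓ stabilizer T b = ⊥ := by
      rw [eq_bot_iff]
      intro g hg
      have hfa := A.faithfulT
      rw [Subgroup.mem_bot]
      apply FaithfulSMul.eq_of_smul_eq_smul (α := Ω)
      intro x
      rw [h2 x g hg.1, one_smul]
    rw [h3, Subgroup.card_bot]
  · intro h60 hsol
    rcases hc with h | h
    · omega
    · apply H517.Alt.not_isSolvable_five
      have h1 : Group.IsSolvable ↥(stabilizer T a ⊓ stabilizer T b) :=
        Group.isSolvable_of_isSolvable_injective (f := Subgroup.inclusion inf_le_left)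
          (Subgroup.inclusion_injective inf_le_left)
      let ψ : alternatingGroup (Fin 5) →* ↥(stabilizer T a ⊓ stabilizer T b) :=
        (φ.toMonoidHom.comp ((MulEquiv.subgroupCongr h.1).symm.toMonoidHom.comp
          (Subgroup.topEquiv.symm.toMonoidHom))).comp e.symm.toMonoidHom
      have hψ : Function.Injective ψ := by
        intro x y hxy
        exact e.symm.injective (Subgroup.topEquiv.symm.injective ((MulEquiv.subgroupCongr h.1).symm.injective
          (φ.injective hxy)))
      exact Group.isSolvable_of_isSolvable_injective (f := ψ) hψ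


open ClassicalGeometry.AutPSL.Root in
theorem stab_solvable_psl {F : Type} [Field F] [Fintype F] {X : Type*} [Group X] [Finite X]
    (e : X ≃* Matrix.ProjectiveSpecialLinearGroup (Fin 2) F) (Y : Subgroup X) (m : ℕ) (hY : Nat.card Y = Fintype.card F * m)
    (hm0 : 0 < m) (hm : m ∣ Fintype.card F - 1) : Group.IsSolvable Y := by
  classical
  obtain ⟨p, hchar, f, hp, hF⟩ := FiniteField.card' F
  have hpr : Fact p.Prime := ⟨hp⟩
  obtain ⟨S, hS⟩ := ClassicalGeometry.AutPSL.SylowU.exists_sylow (F := F) 2 p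
  have hcS : Nat.card (S : Subgroup (Matrix.ProjectiveSpecialLinearGroup (Fin 2) F)) = Fintype.card F := by
    rw [hS, ClassicalGeometry.AutPSL.SylowU.card_map_upper]
    norm_num
  have hq : ∀ P : Sylow p (Matrix.ProjectiveSpecialLinearGroup (Fin 2) F),
      Nat.card (P : Subgroup (Matrix.ProjectiveSpecialLinearGroup (Fin 2) F)) = Fintype.card F := by
    intro P
    rw [← hcS]
    exact P.card_eq_multiplicity.trans S.card_eq_multiplicity.symm
  have hTI : ∀ P Q : Sylow p (Matrix.ProjectiveSpecialLinearGroup (Fin 2) F), P ≠ Q →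
      (P : Subgroup (Matrix.ProjectiveSpecialLinearGroup (Fin 2) F)) ⊓ (Q : Subgroup _) = ⊥ := by
    intro P Q hne
    rw [eq_bot_iff]
    rintro x ⟨hx1, hx2⟩
    rw [Subgroup.mem_bot]
    by_contra hx
    exact hne (ClassicalGeometry.PSL2ElemOrder.sylow_eq_of_mem p P Q x hx hx1 hx2)
  have hq2 : 2 ≤ Fintype.card F := Fintype.one_lt_card
  have hmle := Nat.le_of_dvd (by omega) hm
  have hpm : ¬ p ∣ m := by
    intro h
    have h1 : p ∣ Fintype.card F - 1 := h.trans hm
    have h2 : p ∣ Fintype.card F := by rw [hF]; exact dvd_pow_self p f.pos.ne'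
    have h3 : p ∣ 1 := by
      have := Nat.dvd_sub h2 h1
      have h4 : Fintype.card F - (Fintype.card F - 1) = 1 := by omega
      rwa [h4] at this
    exact hp.one_lt.ne' (Nat.dvd_one.mp h3)
  obtain ⟨P, hP⟩ := TISolv.le_normalizer p hTI (Y.map e.toMonoidHom) m (Fintype.card F) hq
    (by rw [Subgroup.card_map_of_injective e.injective, hY]) (by omega) hm0 hpm
  have h1 := ClassicalGeometry.PSL2Solvable.isSolvable_of_le_normalizer p P _ hP
  exact Group.isSolvable_of_isSolvable_injective (f := (Y.equivMapOfInjective e.toMonoidHom e.injective).toMonoidHom)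
    (MulEquiv.injective _)

/-- numerical data -/
structure Num (t n k c : ℕ) : Prop where
  eq : t = n * (k * c)
  dvd : k ∣ n - 1
  or : c = 1 ∨ c = 60
  one : k = 1 → c = 1

theorem Num.small {t n k c v w : ℕ} (h : Num t n k c) (ht : t = n * v) (hn : n - 1 = w) (hn0 : 0 < n) (h1 : ¬ v ∣ w)
    (h60 : ∀ j, j ∣ w → j ≠ 1 → v ≠ j * 60) : False := by
  have h2 : v = k * c := by
    have := h.eq
    rw [ht] at this
    exact Nat.eq_of_mul_eq_mul_left hn0 this
  have h3 := h.dvd
  rw [hn] at h3
  rcases h.or with hc | hc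
  · rw [hc, mul_one] at h2
    exact h1 (h2 ▸ h3)
  · rw [hc] at h2
    refine h60 k h3 ?_ h2
    intro hk
    have := h.one hk
    omega

theorem not_alt {n k c : ℕ} (hn : 5 ≤ n) (h7 : n ≠ 7) {t : ℕ} (ht : 2 * t = n.factorial) (h : Num t n k c) : False := by
  have hkle : k ≤ n - 1 := Nat.le_of_dvd (by omega) h.dvd
  have h1 : (n - 1).factorial = 2 * (k * c) := by
    have h2 : n.factorial = n * (n - 1).factorial := (Nat.mul_factorial_pred (by omega)).symm
    rw [h2, h.eq] at ht
    have h3 : n * (2 * (k * c)) = n * (n - 1).factorial := by rw [← ht]; ring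
    exact (Nat.eq_of_mul_eq_mul_left (by omega) h3).symm
  have hcle : c ≤ 60 := by rcases h.or with h | h <;> omega
  have h8 : n < 8 := by
    by_contra hge
    push Not at hge
    have h2 : (n - 1).factorial = (n - 1) * (n - 2).factorial := by
      have := (Nat.mul_factorial_pred (n := n - 1) (by omega)).symm
      rwa [Nat.sub_sub] at this
    have h3 : Nat.factorial 6 ≤ (n - 2).factorial := Nat.factorial_le (by omega)
    have h4 : (n - 1) * 720 ≤ 2 * (k * c) := by
      rw [← h1, h2]
      exact Nat.mul_le_mul_left _ h3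
    have h5 : k * c ≤ (n - 1) * 60 := Nat.mul_le_mul hkle hcle
    omega
  interval_cases n
  · refine h.small (v := 12) (w := 4) ?_ rfl (by norm_num) (by norm_num) (by intro j hj hj1; omega)
    have : (5 : ℕ).factorial = 120 := rfl
    omega
  · refine h.small (v := 60) (w := 5) ?_ rfl (by norm_num) (by norm_num) (by intro j hj hj1; omega)
    have : (6 : ℕ).factorial = 720 := rfl
    omega
  · exact h7 rfl


open OddHalf.Orders in
theorem not_psl {F : Type} [Field F] [Fintype F] {X : Type*} [Group X] [Finite X] {d n k c : ℕ} (hd : 2 ≤ d)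
    (hd2 : d = 2 → 4 ≤ Fintype.card F)
    (e : X ≃* Matrix.ProjectiveSpecialLinearGroup (Fin d) F)
    (hn : n * (Fintype.card F - 1) = Fintype.card F ^ d - 1) (h : Num (Nat.card X) n k c)
    (Y : Subgroup X) (hY : Nat.card Y = k * c) (hns : c = 60 → ¬ Group.IsSolvable Y) : False := by
  classical
  have hq2 : 2 ≤ Fintype.card F := Fintype.one_lt_card
  have hcX : Nat.card X = Nat.card (Matrix.ProjectiveSpecialLinearGroup (Fin d) F) := Nat.card_congr e.toEquiv
  have hdv : Fintype.card F ^ (d * (d - 1) / 2) ∣ Nat.card X := by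
    rw [hcX, ← ClassicalGeometry.AutPSL.SylowU.card_map_upper (F := F) d]
    exact Subgroup.card_subgroup_dvd_card _
  have hgl := card_psl (F := F) d hd
  rw [← hcX] at hgl
  generalize hq : Fintype.card F = q at *
  -- geometric sum
  obtain ⟨r, rfl⟩ : ∃ r, d = r + 2 := ⟨d - 2, by omega⟩
  let S : ℕ → ℕ := fun j => ∑ i ∈ Finset.range j, q ^ i
  have hS : ∀ j, S j * (q - 1) = q ^ j - 1 := fun j => by
    have := Nat.geomSum_eq hq2 j
    show (∑ i ∈ Finset.range j, q ^ i) * (q - 1) = _
    rw [this]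
    exact Nat.div_mul_cancel (Nat.sub_one_dvd_pow_sub_one q j)
  have hnS : n = S (r + 2) := by
    apply Nat.eq_of_mul_eq_mul_right (show 0 < q - 1 by omega)
    rw [hn, hS]
  have hSs : ∀ j, S (j + 1) = q * S j + 1 := fun j => by
    show ∑ i ∈ Finset.range (j + 1), q ^ i = _
    rw [Finset.sum_range_succ', Finset.mul_sum]
    simp [pow_succ, mul_comm]
  have hcop : ∀ j, Nat.Coprime q (S (j + 1)) := fun j => by
    rw [hSs]
    simp
  have hn1 : n - 1 = q * S (r + 1) := by rw [hnS, hSs (r + 1), Nat.add_sub_cancel]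
  have hdvd := h.dvd
  rw [hn1] at hdvd
  by_cases hr : r = 0
  · subst hr
    have hq4 := hd2 rfl
    have hS1 : S 1 = 1 := by simp [S]
    rw [show 0 + 1 = 1 from rfl, hS1, mul_one] at hdvd
    have hnq : n = q + 1 := by
      rw [hnS]
      show S (1 + 1) = q + 1
      rw [hSs 1, hS1, mul_one]
    -- card
    have hg : Nat.gcd 2 (q - 1) * (k * c) = q * (q - 1) := by
      have h1 : gl 2 q = (q ^ 2 - 1) * (q ^ 2 - q) := by simp [gl, List.range_succ]
      rw [show 0 + 2 = 2 from rfl, h1, glDen, h.eq, hnq] at hgl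
      have h2 : q ^ 2 - 1 = (q + 1) * (q - 1) := by
        obtain ⟨t, rfl⟩ : ∃ t, q = t + 1 := ⟨q - 1, by omega⟩
        apply Nat.sub_eq_of_eq_add
        rw [Nat.add_sub_cancel]
        ring
      have h3 : q ^ 2 - q = q * (q - 1) := by rw [Nat.mul_sub_one, sq]
      rw [h2, h3] at hgl
      have h4 : ((q + 1) * (q - 1)) * (Nat.gcd 2 (q - 1) * (k * c)) = ((q + 1) * (q - 1)) * (q * (q - 1)) := by
        rw [← hgl]
        ring
      exact Nat.eq_of_mul_eq_mul_left (Nat.mul_pos (by omega) (by omega)) h4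
    have hkle : k ≤ q := Nat.le_of_dvd (by omega) hdvd
    have hgle : Nat.gcd 2 (q - 1) ≤ 2 := Nat.gcd_le_left _ (by norm_num)
    rcases h.or with hc | hc
    · rw [hc, mul_one] at hg
      have h1 : Nat.gcd 2 (q - 1) * k ≤ 2 * q := Nat.mul_le_mul hgle hkle
      rw [hg, mul_comm 2 q] at h1
      have h2 := Nat.le_of_mul_le_mul_left h1 (by omega)
      omega
    · obtain ⟨m, hm⟩ : Nat.gcd 2 (q - 1) ∣ q - 1 := Nat.gcd_dvd_right _ _
      have hgpos : 0 < Nat.gcd 2 (q - 1) := Nat.gcd_pos_of_pos_left _ (by norm_num)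
      have hYq : Nat.card Y = q * m := by
        rw [hY]
        apply Nat.eq_of_mul_eq_mul_left hgpos
        rw [hg, mul_left_comm, ← hm]
      refine hns hc (stab_solvable_psl e Y m (by rw [hq]; exact hYq) ?_ ?_)
      · rcases Nat.eq_zero_or_pos m with h0 | h0
        · rw [h0, mul_zero] at hm
          omega
        · exact h0
      · rw [hq]
        exact Dvd.intro_left _ hm.symm
  · obtain ⟨r, rfl⟩ : ∃ r', r = r' + 1 := ⟨r - 1, by omega⟩
    have hcopn : Nat.Coprime q n := by rw [hnS]; exact hcop _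
    have hx : (r + 1 + 2) * (r + 1 + 2 - 1) / 2 = (r * (r + 5) / 2) + 2 + 1 := by
      have h1 : (r + 1 + 2) * (r + 1 + 2 - 1) = r * (r + 5) + 3 * 2 := by
        rw [show r + 1 + 2 - 1 = r + 2 by omega]
        ring
      rw [h1, Nat.add_mul_div_right _ _ (by norm_num)]
    rw [hx] at hdv
    generalize hxr : r * (r + 5) / 2 = x at *
    rw [h.eq] at hdv
    have h1 : q ^ (x + 2 + 1) ∣ k * c := (Nat.Coprime.pow_left _ hcopn).dvd_of_dvd_mul_left hdv
    have h2 : q ^ (x + 2 + 1) ∣ (q * S (r + 1 + 1)) * c := h1.trans (Nat.mul_dvd_mul_right hdvd c)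
    rw [pow_succ, mul_comm (q ^ (x + 2)) q, mul_assoc] at h2
    have h3 := Nat.dvd_of_mul_dvd_mul_left (by omega) h2
    have h4 : q ^ (x + 2) ∣ c := (Nat.Coprime.pow_left _ (hcop _)).dvd_of_dvd_mul_left h3
    have h5 : q ^ (x + 2) ∣ 60 := by
      rcases h.or with hc | hc
      · rw [hc] at h4; exact h4.trans (one_dvd _)
      · rw [hc] at h4; exact h4
    have h6 : q = 2 := by
      have h7 : q ^ 2 ∣ 60 := (pow_dvd_pow q (by omega)).trans h5
      have h8 : q ≤ 7 := by
        by_contra hcon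
        push Not at hcon
        have := Nat.le_of_dvd (by norm_num) h7
        have h9 : 8 ^ 2 ≤ q ^ 2 := Nat.pow_le_pow_left hcon 2
        omega
      interval_cases q <;> revert h7 <;> decide
    subst h6
    have h7 : x = 0 := by
      by_contra hcon
      have h8 : 2 ^ 3 ∣ 60 := (pow_dvd_pow 2 (by omega)).trans h5
      revert h8
      decide
    have h8 : r = 0 := by
      by_contra hcon
      have h9 : 1 * 6 ≤ r * (r + 5) := Nat.mul_le_mul (by omega) (by omega)
      omega
    subst h8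
    have hn7 : n = 7 := by
      rw [hnS]
      show ∑ i ∈ Finset.range 3, 2 ^ i = 7
      decide
    have ht : Nat.card X = 168 := by
      have h9 : glDen (0 + 1 + 2) 2 = 1 := by decide
      have h10 : gl (0 + 1 + 2) 2 = 168 := by decide
      rw [h9, h10, one_mul] at hgl
      exact hgl
    refine h.small (v := 24) (w := 6) ?_ ?_ (by omega) (by norm_num) (by intro j hj hj1; omega)
    · rw [ht, hn7]
    · rw [hn7]

open OddHalf.Orders in
theorem not_sp {F : Type} [Field F] [Fintype F] {X : Type*} [Group X] [Finite X] {m n k c : ℕ}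
    (hF : Fintype.card F = 2) (hm : 3 ≤ m)
    (e : X ≃* Cfsg.PSp m F)
    (hn : n = 2 ^ (m - 1) * (2 ^ m + 1) ∨ n = 2 ^ (m - 1) * (2 ^ m - 1)) (h : Num (Nat.card X) n k c) : False := by
  have hsp := card_psp (F := F) m (by omega)
  rw [hF, ← Nat.card_congr e.toEquiv] at hsp
  have h1 : spDen 2 = 1 := by decide
  rw [h1, one_mul, sp] at hsp
  have hdv : 2 ^ (m ^ 2) ∣ Nat.card X := by rw [hsp]; exact Dvd.intro _ rfl
  obtain ⟨a, ha, hna⟩ : ∃ a, ¬ 2 ∣ a ∧ n = 2 ^ (m - 1) * a := by
    have h2 : 2 ∣ 2 ^ m := dvd_pow_self 2 (by omega)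
    have h3 : 0 < 2 ^ m := by positivity
    rcases hn with h | h
    · exact ⟨_, by omega, h⟩
    · exact ⟨_, by omega, h⟩
  have hk : ¬ 2 ∣ k := by
    intro hk
    have h2 : 2 ∣ n - 1 := hk.trans h.dvd
    have h3 : 2 ∣ n := by rw [hna]; exact Dvd.dvd.mul_right (dvd_pow_self 2 (by omega)) _
    have h4 : 0 < n := by
      rcases Nat.eq_zero_or_pos n with h0 | h0
      · have := h.eq
        rw [h0, zero_mul] at this
        have hpos : 0 < Nat.card X := Nat.card_pos
        omega
      · exact h0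
    omega
  have hc : c ∣ 60 := by rcases h.or with hc | hc <;> rw [hc] <;> norm_num
  have h2 : 2 ^ (m ^ 2) ∣ 2 ^ (m + 1) * (a * k * 15) := by
    refine hdv.trans ?_
    rw [h.eq, hna]
    obtain ⟨y, hy⟩ := hc
    refine ⟨y, ?_⟩
    have h3 : 2 ^ (m + 1) = 2 ^ (m - 1) * 4 := by
      rw [show m + 1 = m - 1 + 2 by omega, pow_add]
      norm_num
    rw [h3]
    calc 2 ^ (m - 1) * 4 * (a * k * 15) = 2 ^ (m - 1) * a * k * 60 := by ring
      _ = 2 ^ (m - 1) * a * k * (c * y) := by rw [hy]
      _ = _ := by ring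
  have h3 : 2 ^ (m + 1 + 1) ∣ 2 ^ (m + 1) * (a * k * 15) := by
    refine (pow_dvd_pow 2 ?_).trans h2
    have : 3 * m ≤ m ^ 2 := by rw [sq]; exact Nat.mul_le_mul_right _ hm
    omega
  rw [pow_succ] at h3
  have h4 := Nat.dvd_of_mul_dvd_mul_left (by positivity) h3
  rw [Nat.prime_two.dvd_mul, Nat.prime_two.dvd_mul] at h4
  rcases h4 with (h4 | h4) | h4
  · exact ha h4
  · exact hk h4
  · revert h4; decide

theorem not_psu {F : Type} [Field F] [Fintype F] {X : Type*} [Group X] [Finite X] {q n k c : ℕ}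
    (hq : 3 ≤ q) (hF : Fintype.card F = q ^ 2) (e : X ≃* Cfsg.PSU 3 F q) (hn : n = q ^ 3 + 1)
    (h : Num (Nat.card X) n k c)
    (Y : Subgroup X) (hY : Nat.card Y = k * c) (hns : c = 60 → ¬ Group.IsSolvable Y) : False := by
  have hg : Nat.gcd 3 (q + 1) * (k * c) = q ^ 3 * (q ^ 2 - 1) := by
    obtain ⟨t, rfl⟩ : ∃ t, q = t + 1 := ⟨q - 1, by omega⟩
    have h1 := HKS.EndOrd.card_psu_three (F := F) hF
    rw [← Nat.card_congr e.toEquiv, h.eq, hn] at h1
    have h2 : (t + 1) ^ 2 - 1 = t * (t + 2) := by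
      apply Nat.sub_eq_of_eq_add
      ring
    have h3 : (t + 1) ^ 3 + 1 = (t + 2) * (t ^ 2 + t + 1) := by ring
    rw [show t + 1 + 1 = t + 2 from rfl, h2]
    have h4 : ((t + 1) ^ 3 + 1) * (Nat.gcd 3 (t + 2) * (k * c)) =
        ((t + 1) ^ 3 + 1) * ((t + 1) ^ 3 * (t * (t + 2))) := by
      calc ((t + 1) ^ 3 + 1) * (Nat.gcd 3 (t + 2) * (k * c))
          = Nat.gcd 3 (t + 2) * (((t + 1) ^ 3 + 1) * (k * c)) := by ring
        _ = _ := by rw [h1, h3]; ring
    exact Nat.eq_of_mul_eq_mul_left (by positivity) h4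
  have hdvd := h.dvd
  rw [hn, Nat.add_sub_cancel] at hdvd
  have hkle : k ≤ q ^ 3 := Nat.le_of_dvd (by positivity) hdvd
  have hgle : Nat.gcd 3 (q + 1) ≤ 3 := Nat.gcd_le_left _ (by norm_num)
  have hgd : Nat.gcd 3 (q + 1) ∣ 3 := Nat.gcd_dvd_left _ _
  have hq9 : 9 ≤ q ^ 2 := by
    have := Nat.pow_le_pow_left hq 2
    omega
  rcases h.or with hc | hc
  · rw [hc, mul_one] at hg
    have h1 : Nat.gcd 3 (q + 1) * k ≤ 3 * q ^ 3 := Nat.mul_le_mul hgle hkle
    rw [hg, mul_comm 3] at h1
    have h2 := Nat.le_of_mul_le_mul_left h1 (by positivity)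
    omega
  · obtain ⟨j, hj⟩ := hdvd
    have hk0 : 0 < k := by
      rcases Nat.eq_zero_or_pos k with h0 | h0
      · rw [h0, zero_mul] at hj
        have : 0 < q ^ 3 := by positivity
        omega
      · exact h0
    have h1 : Nat.gcd 3 (q + 1) * 60 = j * (q ^ 2 - 1) := by
      apply Nat.eq_of_mul_eq_mul_left hk0
      calc k * (Nat.gcd 3 (q + 1) * 60) = Nat.gcd 3 (q + 1) * (k * c) := by rw [hc]; ring
        _ = k * j * (q ^ 2 - 1) := by rw [hg, hj]
        _ = _ := by ring
    have hj0 : 0 < j := by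
      rcases Nat.eq_zero_or_pos j with h0 | h0
      · rw [h0, mul_zero] at hj
        have : 0 < q ^ 3 := by positivity
        omega
      · exact h0
    have h2 : q ^ 2 - 1 ≤ 180 := by
      have h3 : 1 * (q ^ 2 - 1) ≤ j * (q ^ 2 - 1) := Nat.mul_le_mul_right _ hj0
      omega
    have hq13 : q ≤ 13 := by
      by_contra hcon
      push Not at hcon
      have := Nat.pow_le_pow_left (show 14 ≤ q from hcon) 2
      omega
    have hpp : IsPrimePow (q ^ 2) := by rw [← hF]; exact FiniteField.isPrimePow_card F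
    have hq4 : q = 4 := by
      by_contra hne
      have h6 : q ≠ 6 := by
        rintro rfl
        have h7 := hpp
        rw [isPrimePow_pow_iff (by norm_num)] at h7
        exact absurd h7 (by
          rw [isPrimePow_nat_iff]
          rintro ⟨p, k, hp, hk, hpk⟩
          have h2 : 2 ∣ p ^ k := by rw [hpk]; norm_num
          have h3 : 3 ∣ p ^ k := by rw [hpk]; norm_num
          have h4 := (Nat.prime_dvd_prime_iff_eq Nat.prime_two hp).1 (Nat.prime_two.dvd_of_dvd_pow h2)
          have h5 := (Nat.prime_dvd_prime_iff_eq Nat.prime_three hp).1 (Nat.prime_three.dvd_of_dvd_pow h3)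
          omega)
      clear hpp hg hF hj hn hkle hY hns
      interval_cases q <;> first | omega | (norm_num at h1; done) | (norm_num at h1; omega)
    subst hq4
    have hj4 : j = 4 := by norm_num at h1; omega
    have hk16 : k = 16 := by rw [hj4] at hj; omega
    have hF16 : Fintype.card F = 16 := by rw [hF]; norm_num
    refine hns hc ?_
    have h3 := PSU34.main hF16 rfl (Y.map e.toMonoidHom)
      (by rw [Subgroup.card_map_of_injective e.injective, hY, hc, hk16])
    exact Group.isSolvable_of_isSolvable_injective (f := (Y.equivMapOfInjective e.toMonoidHom e.injective).toMonoidHom)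
      (MulEquiv.injective _)

theorem not_sz {n k c q t : ℕ} (m : ℕ) (hm : 1 ≤ m) (hq : q = 2 ^ (2 * m + 1)) (hn : n = q ^ 2 + 1)
    (ht : t = q ^ 2 * (q - 1) * (q ^ 2 + 1)) (h : Num t n k c) : False := by
  have h8 : 8 ≤ q := by
    rw [hq]
    have : 2 ^ 3 ≤ 2 ^ (2 * m + 1) := Nat.pow_le_pow_right (by norm_num) (by omega)
    omega
  have h3 : q % 3 = 2 := by
    rw [hq, pow_succ, pow_mul, Nat.mul_mod, Nat.pow_mod]
    norm_num
  have hkc : k * c = q ^ 2 * (q - 1) := by
    apply Nat.eq_of_mul_eq_mul_left (show 0 < q ^ 2 + 1 by omega)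
    rw [← hn, ← h.eq, ht, hn]
    ring
  have hdvd := h.dvd
  rw [hn, Nat.add_sub_cancel] at hdvd
  have hkle : k ≤ q ^ 2 := Nat.le_of_dvd (by positivity) hdvd
  rcases h.or with hc | hc
  · rw [hc, mul_one] at hkc
    rw [hkc] at hkle
    have h1 : q ^ 2 * 2 ≤ q ^ 2 * (q - 1) := Nat.mul_le_mul_left _ (by omega)
    have h2 : 0 < q ^ 2 := by positivity
    omega
  · have h1 : 3 ∣ q ^ 2 * (q - 1) := by
      rw [← hkc, hc]
      exact Dvd.dvd.mul_left (by norm_num) _
    rw [Nat.prime_three.dvd_mul] at h1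
    rcases h1 with h1 | h1
    · have := Nat.prime_three.dvd_of_dvd_pow h1
      omega
    · omega

theorem not_ree {n k c q t : ℕ} (m : ℕ) (hm : 1 ≤ m) (hq : q = 3 ^ (2 * m + 1)) (hn : n = q ^ 3 + 1)
    (ht : t = q ^ 3 * (q - 1) * (q ^ 3 + 1)) (h : Num t n k c) : False := by
  have h8 : 27 ≤ q := by
    rw [hq]
    have : 3 ^ 3 ≤ 3 ^ (2 * m + 1) := Nat.pow_le_pow_right (by norm_num) (by omega)
    omega
  have h5 : q % 5 = 3 ∨ q % 5 = 2 := by
    rw [hq]
    clear hq hn ht h8 h hm
    induction m with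
    | zero => left; rfl
    | succ m ih =>
      rw [show 2 * (m + 1) + 1 = (2 * m + 1) + 2 by ring, pow_add, Nat.mul_mod]
      rcases ih with h | h <;> rw [h] <;> norm_num
  have hkc : k * c = q ^ 3 * (q - 1) := by
    apply Nat.eq_of_mul_eq_mul_left (show 0 < q ^ 3 + 1 by omega)
    rw [← hn, ← h.eq, ht, hn]
    ring
  have hdvd := h.dvd
  rw [hn, Nat.add_sub_cancel] at hdvd
  have hkle : k ≤ q ^ 3 := Nat.le_of_dvd (by positivity) hdvd
  rcases h.or with hc | hc
  · rw [hc, mul_one] at hkc
    rw [hkc] at hkle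
    have h1 : q ^ 3 * 2 ≤ q ^ 3 * (q - 1) := Nat.mul_le_mul_left _ (by omega)
    have h2 : 0 < q ^ 3 := by positivity
    omega
  · have h1 : 5 ∣ q ^ 3 * (q - 1) := by
      rw [← hkc, hc]
      exact Dvd.dvd.mul_left (by norm_num) _
    rw [Nat.prime_five.dvd_mul] at h1
    rcases h1 with h1 | h1
    · have := Nat.prime_five.dvd_of_dvd_pow h1
      omega
    · omega

/-- **The row analysis**: a 2-transitive almost simple group whose two-point stabilizer is `A₅` is `A₇` on 7 points
or `M₁₁` on 12 points. -/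
theorem main (A : AS G Ω T) (hO : Ords ↥T) (hK : Known2 ↥T (Nat.card Ω)) (a b : Ω) (hab : a ≠ b)
    (e : ↥(stabilizer G a ⊓ stabilizer G b) ≃* ↥(alternatingGroup (Fin 5))) :
    (Nat.card Ω = 7 ∧ Nonempty (G ≃* ↥(alternatingGroup (Fin 7)))) ∨ (Nat.card Ω = 12 ∧ Cfsg.Spor.IsoM11 G) := by
  classical
  have hfG := A.finG
  have hfT := A.finT
  obtain ⟨hG, k, c, h1, h2, h3, h4, h5, h6⟩ := data A a b hab e
  have hN : Num (Nat.card T) (Nat.card Ω) k c := ⟨h1, h2, h3, h4⟩
  have top : Nat.card T = Nat.card G → Nonempty (T ≃* G) := by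
    intro h
    have h7 : T = ⊤ := Subgroup.eq_top_of_card_eq T h
    exact ⟨(MulEquiv.subgroupCongr h7).trans Subgroup.topEquiv⟩
  have cong : ∀ {n : ℕ}, Nat.card Ω = n → Num (Nat.card T) n k c := by
    rintro n rfl
    exact hN
  have hodd : ∀ {F : Type} [Field F] [Fintype F], Fintype.card F = 8 → ∀ (_ : Nonempty
      (T ≃* Matrix.ProjectiveSpecialLinearGroup (Fin 2) F)), Nat.card T = 504 := by
    intro F _ _ hF ⟨e'⟩
    have h := OddHalf.Orders.card_psl (F := F) 2 le_rfl
    rw [hF, ← Nat.card_congr e'.toEquiv] at h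
    have h7 : OddHalf.Orders.glDen 2 8 = 7 := by decide
    have h8 : OddHalf.Orders.gl 2 8 = 3528 := by decide
    rw [h7, h8] at h
    omega
  generalize hn : Nat.card Ω = n at hK
  cases hK with
  | alt n hn5 e' =>
    obtain ⟨e'⟩ := e'
    by_cases h7 : n = 7
    · left
      subst h7
      refine ⟨rfl, ?_⟩
      have hT : Nat.card T = 2520 := by
        rw [Nat.card_congr e'.toEquiv]
        have h := two_mul_nat_card_alternatingGroup (α := Fin 7)
        rw [Nat.card_perm, Nat.card_fin] at h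
        have : Nat.factorial 7 = 5040 := rfl
        omega
      obtain ⟨f⟩ := top (by rw [hT, hG, hn])
      exact ⟨f.symm.trans e'⟩
    · exfalso
      refine not_alt hn5 h7 (t := Nat.card T) ?_ (cong hn)
      rw [Nat.card_congr e'.toEquiv]
      have : Nontrivial (Fin n) := Fin.nontrivial_iff_two_le.2 (by omega)
      have h := two_mul_nat_card_alternatingGroup (α := Fin n)
      rw [Nat.card_perm, Nat.card_fin] at h
      exact h
  | psl F d n hd hd2 e' hn' =>
    obtain ⟨e'⟩ := e'
    exact (not_psl hd hd2 e' hn' (cong hn) (stabilizer T a) h5 h6).elim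
  | sp F m n hF hm e' hn' =>
    obtain ⟨e'⟩ := e'
    exact (not_sp hF hm e' hn' (cong hn)).elim
  | psu F q n hq hF e' hn' =>
    obtain ⟨e'⟩ := e'
    exact (not_psu hq hF e' hn' (cong hn) (stabilizer T a) h5 h6).elim
  | sz F m n hm hF e' hn' =>
    obtain ⟨e'⟩ := e'
    refine (not_sz m hm hF hn' ?_ (cong hn)).elim
    rw [Nat.card_congr e'.toEquiv, (S1163.result hm hF).1, hF]
  | ree K m n hm hK e' hn' =>
    obtain ⟨e'⟩ := e'
    refine (not_ree m hm hK hn' ?_ (cong hn)).elim
    rw [Nat.card_congr e'.toEquiv, LieRecognition.ReeFinal.card hK, hK]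
  | psl2_8 F hF e' =>
    have hT := hodd hF e'
    exact ((cong hn).small (v := 18) (w := 27) hT rfl (by norm_num) (by norm_num)
      (by intro j hj hj1; omega)).elim
  | psl2_9 F hF e' =>
    obtain ⟨e'⟩ := e'
    have h := OddHalf.Orders.card_psl (F := F) 2 le_rfl
    rw [hF, ← Nat.card_congr e'.toEquiv] at h
    have h7 : OddHalf.Orders.glDen 2 9 = 16 := by decide
    have h8 : OddHalf.Orders.gl 2 9 = 5760 := by decide
    rw [h7, h8] at h
    exact ((cong hn).small (v := 60) (w := 5) (by omega) rfl (by norm_num) (by norm_num)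
      (by intro j hj hj1; omega)).elim
  | psl2_11 F hF e' =>
    obtain ⟨e'⟩ := e'
    have h := OddHalf.Orders.card_psl (F := F) 2 le_rfl
    rw [hF, ← Nat.card_congr e'.toEquiv] at h
    have h7 : OddHalf.Orders.glDen 2 11 = 20 := by decide
    have h8 : OddHalf.Orders.gl 2 11 = 13200 := by decide
    rw [h7, h8] at h
    exact ((cong hn).small (v := 60) (w := 10) (by omega) rfl (by norm_num) (by norm_num)
      (by intro j hj hj1; omega)).elim
  | psl4_2 F hF e' =>
    obtain ⟨e'⟩ := e'
    have h := OddHalf.Orders.card_psl (F := F) 4 (by norm_num)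
    rw [hF, ← Nat.card_congr e'.toEquiv] at h
    have h7 : OddHalf.Orders.glDen 4 2 = 1 := by decide
    have h8 : OddHalf.Orders.gl 4 2 = 20160 := by decide
    rw [h7, h8] at h
    refine ((cong hn).small (v := 2520) (w := 7) (by omega) rfl (by norm_num) (by norm_num) ?_).elim
    intro j hj hj1
    have := Nat.le_of_dvd (by norm_num) hj
    omega
  | a7 e' =>
    obtain ⟨e'⟩ := e'
    have hT : Nat.card T = 2520 := by
      rw [Nat.card_congr e'.toEquiv]
      have h := two_mul_nat_card_alternatingGroup (α := Fin 7)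
      rw [Nat.card_perm, Nat.card_fin] at h
      have : Nat.factorial 7 = 5040 := rfl
      omega
    exact ((cong hn).small (v := 168) (w := 14) hT rfl (by norm_num) (by norm_num)
      (by intro j hj hj1; omega)).elim
  | m11 h =>
    refine ((cong hn).small (v := 720) (w := 10) (hO.m11 h) rfl (by norm_num) (by norm_num) ?_).elim
    intro j hj hj1
    have := Nat.le_of_dvd (by norm_num) hj
    omega
  | m11' h =>
    right
    refine ⟨rfl, ?_⟩
    obtain ⟨f⟩ := top (by rw [hO.m11 h, hG, hn])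
    exact h.map f.symm.trans
  | m12 h =>
    refine ((cong hn).small (v := 7920) (w := 11) (hO.m12 h) rfl (by norm_num) (by norm_num) ?_).elim
    intro j hj hj1
    have := Nat.le_of_dvd (by norm_num) hj
    omega
  | m22 h =>
    refine ((cong hn).small (v := 20160) (w := 21) (hO.m22 h) rfl (by norm_num) (by norm_num) ?_).elim
    intro j hj hj1
    have := Nat.le_of_dvd (by norm_num) hj
    omega
  | m23 h =>
    refine ((cong hn).small (v := 443520) (w := 22) (hO.m23 h) rfl (by norm_num) (by norm_num) ?_).elim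
    intro j hj hj1
    have := Nat.le_of_dvd (by norm_num) hj
    omega
  | m24 h =>
    refine ((cong hn).small (v := 10200960) (w := 23) (hO.m24 h) rfl (by norm_num) (by norm_num) ?_).elim
    intro j hj hj1
    have := Nat.le_of_dvd (by norm_num) hj
    omega
  | hs h =>
    refine ((cong hn).small (v := 252000) (w := 175) (hO.hs h) rfl (by norm_num) (by norm_num) ?_).elim
    intro j hj hj1
    have := Nat.le_of_dvd (by norm_num) hj
    omega
  | co3 h =>
    refine ((cong hn).small (v := 1796256000) (w := 275) (hO.co3 h) rfl (by norm_num) (by norm_num) ?_).elim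
    intro j hj hj1
    have := Nat.le_of_dvd (by norm_num) hj
    omega

end Cfsg.Agent.H395.TwoPtA5
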